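import Cfsg.Agent.L.Orb.FamData
/-!
The enumerated families: octads, dodecads, sextets, trios, pairs of dodecads, duads, triads.
-/
set_option autoImplicit false
namespace CfsgL.Orb
open Cfsg CfsgL.Comp CfsgL.Golay
open scoped Pointwise

/-- all rows satisfy `f` -/
def rowAll (f : List ℕ → Bool) (w T n : ℕ) : Bool :=
  allD (fun k => Bool.or (Nat.ble n k) (f (row w T k))) 12 0

theorem rowAll_iff {f : List ℕ → Bool} {w T n : ℕ} (hn : n ≤ 4096) (h : rowAll f w T n = true) :
    ∀ k < n, f (row w T k) = true := by
  intro k hk
  have := allD_lt h (x := k) (lt_of_lt_of_le hk hn)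
  rw [Bool.or_eq_true, natBle_iff] at this
  rcases this with h1 | h1
  · omega
  · exact h1

/-- mask test: code word of given weight -/
def isWt (w m : ℕ) : Bool := Bool.and (inCode m) (Nat.beq (pop24 m) w)

/-- octads -/
noncomputable def octF : Fam octads :=
  maskFam octads 759 octT (by decide) (fun k hk => by
    have h := entAll_iff (f := isWt 8) (n := 759) (by decide) (by decide +kernel : entAll (isWt 8) octT 759 = true) k hk
    unfold isWt at h
    rw [Bool.and_eq_true, natBeq_iff] at h
    exact mem_octads_mset h.1 h.2) (by decide +kernel) octads_ncard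

/-- dodecads -/
noncomputable def dodF : Fam dodecads :=
  maskFam dodecads 2576 dodT (by decide) (fun k hk => by
    have h := entAll_iff (f := isWt 12) (n := 2576) (by decide) (by decide +kernel : entAll (isWt 12) dodT 2576 = true) k hk
    unfold isWt at h
    rw [Bool.and_eq_true, natBeq_iff] at h
    exact mem_dodecads_mset h.1 h.2) (by decide +kernel) dodecads_ncard

theorem ncard_card (k : ℕ) : {s : Finset GolayPt | s.card = k}.ncard = Nat.choose 24 k := by
  have : {s : Finset GolayPt | s.card = k} = ↑((Finset.univ : Finset GolayPt).powersetCard k) := by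
    ext s
    simp [Finset.mem_powersetCard]
  rw [this, Set.ncard_coe_finset, Finset.card_powersetCard, Finset.card_univ, card_pt]

/-- duads -/
noncomputable def duadF : Fam {s : Finset GolayPt | s.card = 2} :=
  maskFam _ 276 duadT (by decide) (fun k hk => by
    have h := entAll_iff (f := fun m => Nat.beq (pop24 m) 2) (n := 276) (by decide)
      (by decide +kernel : entAll (fun m => Nat.beq (pop24 m) 2) duadT 276 = true) k hk
    rw [natBeq_iff] at h
    change (mset _).card = 2
    rw [card_mset, h]) (by decide +kernel) (by rw [ncard_card]; decide +kernel)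

/-- triads -/
noncomputable def triadF : Fam {s : Finset GolayPt | s.card = 3} :=
  maskFam _ 2024 triadT (by decide) (fun k hk => by
    have h := entAll_iff (f := fun m => Nat.beq (pop24 m) 3) (n := 2024) (by decide)
      (by decide +kernel : entAll (fun m => Nat.beq (pop24 m) 3) triadT 2024 = true) k hk
    rw [natBeq_iff] at h
    change (mset _).card = 3
    rw [card_mset, h]) (by decide +kernel) (by rw [ncard_card]; decide +kernel)

/-- rows of a sextet table -/
def sextRow : List ℕ → Bool
  | [] => false
  | m :: l => Bool.and (incrL (m :: l)) (Bool.and (Nat.beq l.length 5)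
      ((m :: l).all (fun x => Bool.and (Nat.beq (pop24 x) 4) (force (Nat.xor m x) inCode))))

theorem card_objL {l : List ℕ} (h : l.Pairwise (· < ·)) (hl : ∀ m ∈ l, m < 2 ^ 24) :
    (objL l).card = l.length := by
  unfold objL
  rw [List.toFinset_card_of_nodup, List.length_map]
  rw [List.nodup_map_iff_inj_on (h.imp (fun h => ne_of_lt h))]
  intro x hx y hy e
  exact (mset_inj (hl x hx) (hl y hy)).1 e

theorem sextRow_sound {l : List ℕ} (hl : ∀ m ∈ l, m < 2 ^ 24) (h : sextRow l = true) :
    objL l ∈ sextets := by
  cases l with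
  | nil => simp [sextRow] at h
  | cons m l =>
    unfold sextRow at h
    rw [Bool.and_eq_true, Bool.and_eq_true, natBeq_iff, List.all_eq_true] at h
    obtain ⟨h1, h2, h3⟩ := h
    have hm := h3 m (List.mem_cons_self)
    rw [Bool.and_eq_true, natBeq_iff] at hm
    have hc : (mset m).card = 4 := by rw [card_mset, hm.1]
    have : objL (m :: l) = cls (mset m) := by
      apply Finset.eq_of_subset_of_card_le
      · intro s hs
        rw [mem_objL] at hs
        obtain ⟨x, hx, rfl⟩ := hs
        have h4 := h3 x hx
        rw [Bool.and_eq_true, natBeq_iff, force_eq] at h4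
        rw [mem_cls]
        refine ⟨by rw [card_mset, h4.1], ?_⟩
        rw [← mset_xor]
        have h5 : m ^^^ x < 2 ^ 24 := Nat.xor_lt_two_pow (hl m List.mem_cons_self) (hl x hx)
        exact (mset_mem_supports h5).2 h4.2
      · rw [card_cls hc, card_objL (incrL_pairwise h1) hl, List.length_cons, h2]
    rw [this]
    exact cls_mem hc

theorem sext_rows : rowsOK 6 sextT 1771 = true := by decide +kernel
theorem trio_rows : rowsOK 3 trioT 3795 = true := by decide +kernel
theorem dpair_rows : rowsOK 2 dpairT 1288 = true := by decide +kernel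

/-- sextets -/
noncomputable def sextF : Fam sextets :=
  rowFam sextets 6 1771 sextT (by decide) (by decide) (fun S hS => hS.1)
    (fun k hk => sextRow_sound (fun m => row_lt)
      (rowAll_iff (n := 1771) (by decide) (by decide +kernel : rowAll sextRow 6 sextT 1771 = true) k hk))
    sext_rows sextets_ncard

/-- rows of a trio table -/
def trioRow : List ℕ → Bool
  | [a, b, c] => Bool.and (incrL [a, b, c]) (Bool.and (Bool.and (isWt 8 a) (Bool.and (isWt 8 b) (isWt 8 c)))
      (Bool.and (Nat.beq (Nat.land a b) 0) (Bool.and (Nat.beq (Nat.land a c) 0) (Nat.beq (Nat.land b c) 0))))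
  | _ => false

theorem mset_zero : mset 0 = ∅ := by
  ext p; simp [mem_mset]

theorem trioRow_sound {l : List ℕ} (hl : ∀ m ∈ l, m < 2 ^ 24) (h : trioRow l = true) :
    objL l ∈ trios := by
  match l, h with
  | [a, b, c], h =>
    unfold trioRow isWt at h
    simp only [Bool.and_eq_true, natBeq_iff] at h
    obtain ⟨h1, ⟨⟨ha, ha'⟩, ⟨hb, hb'⟩, ⟨hc, hc'⟩⟩, hab, hac, hbc⟩ := h
    have oa := mem_octads_mset ha ha'
    have ob := mem_octads_mset hb hb'
    have oc := mem_octads_mset hc hc'
    have dj : ∀ x y, Nat.land x y = 0 → Disjoint (mset x) (mset y) := by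
      intro x y h
      rw [Finset.disjoint_iff_inter_eq_empty, ← mset_and]
      change mset (Nat.land x y) = ∅
      rw [h, mset_zero]
    refine ⟨by rw [card_objL (incrL_pairwise h1) hl]; rfl, ?_, ?_⟩
    · intro o ho
      rw [mem_objL] at ho
      simp only [List.mem_cons, List.not_mem_nil, or_false, exists_eq_or_imp, exists_eq_left] at ho
      rcases ho with rfl | rfl | rfl
      exacts [oa, ob, oc]
    · intro o ho o' ho' hne
      rw [mem_objL] at ho ho'
      simp only [List.mem_cons, List.not_mem_nil, or_false, exists_eq_or_imp, exists_eq_left] at ho ho'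
      rcases ho with rfl | rfl | rfl <;> rcases ho' with rfl | rfl | rfl
      · exact absurd rfl hne
      · exact dj _ _ hab
      · exact dj _ _ hac
      · exact (dj _ _ hab).symm
      · exact absurd rfl hne
      · exact dj _ _ hbc
      · exact (dj _ _ hac).symm
      · exact (dj _ _ hbc).symm
      · exact absurd rfl hne

/-- trios -/
noncomputable def trioF : Fam trios :=
  rowFam trios 3 3795 trioT (by decide) (by decide) (fun S hS => hS.1)
    (fun k hk => trioRow_sound (fun m => row_lt)
      (rowAll_iff (n := 3795) (by decide) (by decide +kernel : rowAll trioRow 3 trioT 3795 = true) k hk))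
    trio_rows trios_ncard

/-- complementary pairs of dodecads -/
def dpairs : Set (Finset (Finset GolayPt)) := {S | ∃ d ∈ dodecads, S = {d, dᶜ}}

theorem compl_dodecad {d : Finset GolayPt} (hd : d ∈ dodecads) : dᶜ ∈ dodecads := by
  obtain ⟨h1, h2⟩ := mem_dodecads'.1 hd
  exact mem_dodecads'.2 ⟨compl_mem_supports h1, by rw [Finset.card_compl, h2, card_pt]⟩

theorem ne_compl (d : Finset GolayPt) : d ≠ dᶜ := by
  intro h
  have h1 : (none : GolayPt) ∈ d ↔ (none : GolayPt) ∈ dᶜ := by rw [← h]
  rw [Finset.mem_compl] at h1
  tauto

theorem dpairs_card {S : Finset (Finset GolayPt)} (hS : S ∈ dpairs) : S.card = 2 := by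
  obtain ⟨d, hd, rfl⟩ := hS
  exact Finset.card_pair (ne_compl d)

theorem dpairs_ncard : dpairs.ncard = 1288 := by
  classical
  have hfin : dpairs.Finite := Set.toFinite _
  set F := hfin.toFinset with hF
  have hmem : ∀ S, S ∈ F ↔ S ∈ dpairs := fun S => by rw [hF, Set.Finite.mem_toFinset]
  have h1 : (↑(F.biUnion id) : Set (Finset GolayPt)) = dodecads := by
    ext t
    simp only [Finset.coe_biUnion, Set.mem_iUnion, exists_prop, Finset.mem_coe, id]
    constructor
    · rintro ⟨S, hS, ht⟩
      obtain ⟨d, hd, rfl⟩ := (hmem S).1 hS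
      simp only [Finset.mem_insert, Finset.mem_singleton] at ht
      rcases ht with rfl | rfl
      exacts [hd, compl_dodecad hd]
    · intro ht
      exact ⟨{t, tᶜ}, (hmem _).2 ⟨t, ht, rfl⟩, by simp⟩
  have h2 : (F.biUnion id).card = ∑ S ∈ F, S.card := by
    apply Finset.card_biUnion
    intro S hS S' hS' hne
    rw [Function.onFun, Finset.disjoint_left]
    intro t ht ht'
    apply hne
    have : ∀ S ∈ dpairs, t ∈ S → S = {t, tᶜ} := by
      rintro S ⟨d, hd, rfl⟩ ht
      simp only [Finset.mem_insert, Finset.mem_singleton] at ht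
      rcases ht with rfl | rfl
      · rfl
      · rw [compl_compl, Finset.pair_comm]
    rw [this S ((hmem S).1 hS) ht, this S' ((hmem S').1 hS') ht']
  rw [← Set.ncard_coe_finset, h1, dodecads_ncard,
    Finset.sum_congr rfl (fun S hS => dpairs_card ((hmem S).1 hS)), Finset.sum_const, smul_eq_mul] at h2
  rw [Set.ncard_eq_toFinset_card _ hfin]
  change F.card = 1288
  omega

/-- rows of a table of pairs of dodecads -/
def dpairRow : List ℕ → Bool
  | [a, b] => Bool.and (incrL [a, b]) (Bool.and (isWt 12 a) (Nat.beq (Nat.xor 0xffffff a) b))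
  | _ => false

theorem dpairRow_sound {l : List ℕ} (h : dpairRow l = true) : objL l ∈ dpairs := by
  match l, h with
  | [a, b], h =>
    unfold dpairRow isWt at h
    simp only [Bool.and_eq_true, natBeq_iff] at h
    obtain ⟨h1, ⟨ha, ha'⟩, hab⟩ := h
    refine ⟨mset a, mem_dodecads_mset ha ha', ?_⟩
    have : mset b = (mset a)ᶜ := by
      rw [← hab]
      change mset (0xffffff ^^^ a) = _
      rw [mset_xor]
      have hu : mset 0xffffff = Finset.univ := by
        rw [Finset.eq_univ_iff_forall]
        intro p
        rw [mem_mset]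
        have : ∀ i < 24, Nat.testBit 0xffffff i = true := by decide
        exact this _ (toIdx_lt p)
      rw [hu, ← Finset.top_eq_univ, top_symmDiff, hnot_eq_compl]
    rw [← this]
    ext s
    simp [mem_objL, eq_comm]

/-- pairs of dodecads -/
noncomputable def dpairF : Fam dpairs :=
  rowFam dpairs 2 1288 dpairT (by decide) (by decide) (fun S hS => dpairs_card hS)
    (fun k hk => dpairRow_sound
      (rowAll_iff (n := 1288) (by decide) (by decide +kernel : rowAll dpairRow 2 dpairT 1288 = true) k hk))
    dpair_rows dpairs_ncard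

end CfsgL.Orb
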