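import Cfsg.Agent.L.Orb.FamInst
/-!
Building orbit data from tables for the standard families.
-/
set_option autoImplicit false
namespace CfsgL.Orb
open Cfsg CfsgL.Comp CfsgL.Golay
open scoped Pointwise

variable {α β : Type} [MulAction (Equiv.Perm GolayPt) α] [MulAction (Equiv.Perm GolayPt) β]

/-- a set of points as a family with one member -/
def sg (o : Finset GolayPt) : Finset (Finset GolayPt) := {o}

theorem sg_smul (g : Equiv.Perm GolayPt) (o : Finset GolayPt) : sg (g • o) = g • sg o := by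
  unfold sg; rw [Finset.smul_finset_singleton]

theorem sg_mset (m : ℕ) : sg (mset m) = objL [m] := by
  unfold sg objL; simp

theorem id_smul (g : Equiv.Perm GolayPt) (S : Finset (Finset GolayPt)) : id (g • S) = g • id S := rfl

/-- size list as a function -/
def szf (l : List ℕ) (i : ℕ) : ℕ := l.getD i 0

/-- counts are as given -/
def cntOK (n : ℕ) (dom : ℕ → Bool) (T : ℕ) (sizes : List ℕ) : Bool :=
  (List.range sizes.length).all (fun i => Nat.beq (cntLab n dom T i) (szf sizes i))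

theorem cntOK_iff {n : ℕ} {dom : ℕ → Bool} {T : ℕ} {sizes : List ℕ} (h : cntOK n dom T sizes = true) :
    ∀ i < sizes.length, cntLab n dom T i = szf sizes i := by
  intro i hi
  unfold cntOK at h
  rw [List.all_eq_true] at h
  exact natBeq_iff.1 (h i (List.mem_range.2 hi))

/-- all labels are small (restricted to the domain) -/
theorem mk_orbs {FA : Set α} {FB : α → Set β} {F : Set β} (B : Fam F) (step : ℕ → ℕ → ℕ → Bool)
    (n : ℕ) (hstep : B.step = step) (hn : B.n = n) (dom : ℕ → Bool) (A0 : α)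
    (hA : ∀ a ∈ FA, ∃ h ∈ M24, h • A0 = a)
    (gs roots : List ℕ) (hgs : ∀ P ∈ gs, ∃ g ∈ M24, Agrees g P ∧ g • A0 = A0)
    (eA : α → Finset (Finset GolayPt)) (eB : β → Finset (Finset GolayPt))
    (heA : ∀ (g : Equiv.Perm GolayPt) a, eA (g • a) = g • eA a)
    (heB : ∀ (g : Equiv.Perm GolayPt) b, eB (g • b) = g • eB b)
    (LA : List ℕ) (hLA : incrL LA = true) (hLA' : LA.all (fun m => Nat.ble (m + 1) 16777216) = true)
    (hA0 : eA A0 = objL LA) (rows : ℕ → List ℕ) (hrows : ∀ k < n, (rows k).Pairwise (· < ·))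
    (hrows' : ∀ k, ∀ m ∈ rows k, m < 2 ^ 24) (hB : ∀ k, eB (B.obj k) = objL (rows k))
    (vals : List ℕ)
    (hF : ∀ g ∈ M24, ∀ a, ∀ b ∈ FB a, g • b ∈ FB (g • a)) (hsub : ∀ b ∈ FB A0, b ∈ F)
    (hdom : ∀ k < B.n, dom k = true ↔ B.obj k ∈ FB A0)
    (T : ℕ) (sizes : List ℕ)
    (h : chkAll step n dom gs roots (fun k => find vals (isumL LA (rows k))) T = true)
    (hlt : labLt n T sizes.length = true)
    (hcnt : cntOK n dom T sizes = true) :
    Orbs M24 FA FB (fun a b => find vals (isum (eA a) (eB b))) sizes.length (szf sizes) := by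
  refine Orbs.of_table B dom M24 A0 hA gs roots hgs _ ?_ hF hsub hdom
    (fun k => find vals (isumL LA (rows k))) ?_ T sizes.length (szf sizes) ?_ ?_ ?_
  · intro g _ a b
    rw [heA, heB, isum_smul]
  · intro k hk _
    beta_reduce
    rw [hA0, hB, isum_objL (incrL_pairwise hLA) (hrows k (by rwa [← hn])) ?_ (hrows' k)]
    intro m hm
    rw [List.all_eq_true] at hLA'
    have := hLA' m hm
    rw [natBle_iff] at this
    omega
  · rw [hstep, hn]; exact h
  · rw [hn]; exact hlt
  · rw [hn]; exact cntOK_iff hcnt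

/-- step test of a mask table -/
def mstep (T : ℕ) (P i j : ℕ) : Bool := Nat.beq (img P (ent T i)) (ent T j)
/-- step test of a row table -/
def rstep (w T : ℕ) (P i j : ℕ) : Bool := subImg P (row w T i) (row w T j)

theorem pair1 (m : ℕ) : [m].Pairwise (· < ·) := List.pairwise_singleton _ _

/-- octads (whole family) -/
theorem mk_oct {FA : Set α} (A0 : α) (hA : ∀ a ∈ FA, ∃ h ∈ M24, h • A0 = a)
    (gs roots : List ℕ) (hgs : ∀ P ∈ gs, ∃ g ∈ M24, Agrees g P ∧ g • A0 = A0)
    (eA : α → Finset (Finset GolayPt)) (heA : ∀ (g : Equiv.Perm GolayPt) a, eA (g • a) = g • eA a)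
    (LA : List ℕ) (hLA : incrL LA = true) (hLA' : LA.all (fun m => Nat.ble (m + 1) 16777216) = true)
    (hA0 : eA A0 = objL LA) (vals : List ℕ) (T : ℕ) (sizes : List ℕ)
    (h : chkAll (mstep octT) 759 (fun _ => true) gs roots
      (fun k => find vals (isumL LA [ent octT k])) T = true)
    (hlt : labLt 759 T sizes.length = true) (hcnt : cntOK 759 (fun _ => true) T sizes = true) :
    Orbs M24 FA (fun _ => octads) (fun a b => find vals (isum (eA a) (sg b))) sizes.length (szf sizes) :=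
  mk_orbs octF (mstep octT) 759 rfl rfl (fun _ => true) A0 hA gs roots hgs eA sg heA sg_smul LA hLA
    hLA' hA0 (fun k => [ent octT k]) (fun k _ => pair1 _)
    (fun k m hm => by rw [List.mem_singleton] at hm; rw [hm]; exact ent_lt _ _)
    (fun k => sg_mset _) vals (fun g hg _ b hb => (smul_octad hg).2 hb) (fun _ h => h)
    (fun k hk => ⟨fun _ => octF.mem k hk, fun _ => rfl⟩) T sizes h hlt hcnt

/-- dodecads (whole family) -/
theorem mk_dod {FA : Set α} (A0 : α) (hA : ∀ a ∈ FA, ∃ h ∈ M24, h • A0 = a)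
    (gs roots : List ℕ) (hgs : ∀ P ∈ gs, ∃ g ∈ M24, Agrees g P ∧ g • A0 = A0)
    (eA : α → Finset (Finset GolayPt)) (heA : ∀ (g : Equiv.Perm GolayPt) a, eA (g • a) = g • eA a)
    (LA : List ℕ) (hLA : incrL LA = true) (hLA' : LA.all (fun m => Nat.ble (m + 1) 16777216) = true)
    (hA0 : eA A0 = objL LA) (vals : List ℕ) (T : ℕ) (sizes : List ℕ)
    (h : chkAll (mstep dodT) 2576 (fun _ => true) gs roots
      (fun k => find vals (isumL LA [ent dodT k])) T = true)
    (hlt : labLt 2576 T sizes.length = true) (hcnt : cntOK 2576 (fun _ => true) T sizes = true) :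
    Orbs M24 FA (fun _ => dodecads) (fun a b => find vals (isum (eA a) (sg b))) sizes.length (szf sizes) :=
  mk_orbs dodF (mstep dodT) 2576 rfl rfl (fun _ => true) A0 hA gs roots hgs eA sg heA sg_smul LA hLA
    hLA' hA0 (fun k => [ent dodT k]) (fun k _ => pair1 _)
    (fun k m hm => by rw [List.mem_singleton] at hm; rw [hm]; exact ent_lt _ _)
    (fun k => sg_mset _) vals (fun g hg _ b hb => (smul_dodecad hg).2 hb) (fun _ h => h)
    (fun k hk => ⟨fun _ => dodF.mem k hk, fun _ => rfl⟩) T sizes h hlt hcnt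

/-- duads -/
theorem mk_duad {FA : Set α} (A0 : α) (hA : ∀ a ∈ FA, ∃ h ∈ M24, h • A0 = a)
    (gs roots : List ℕ) (hgs : ∀ P ∈ gs, ∃ g ∈ M24, Agrees g P ∧ g • A0 = A0)
    (eA : α → Finset (Finset GolayPt)) (heA : ∀ (g : Equiv.Perm GolayPt) a, eA (g • a) = g • eA a)
    (LA : List ℕ) (hLA : incrL LA = true) (hLA' : LA.all (fun m => Nat.ble (m + 1) 16777216) = true)
    (hA0 : eA A0 = objL LA) (vals : List ℕ) (T : ℕ) (sizes : List ℕ)
    (h : chkAll (mstep duadT) 276 (fun _ => true) gs roots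
      (fun k => find vals (isumL LA [ent duadT k])) T = true)
    (hlt : labLt 276 T sizes.length = true) (hcnt : cntOK 276 (fun _ => true) T sizes = true) :
    Orbs M24 FA (fun _ => {s : Finset GolayPt | s.card = 2})
      (fun a b => find vals (isum (eA a) (sg b))) sizes.length (szf sizes) :=
  mk_orbs duadF (mstep duadT) 276 rfl rfl (fun _ => true) A0 hA gs roots hgs eA sg heA sg_smul LA hLA
    hLA' hA0 (fun k => [ent duadT k]) (fun k _ => pair1 _)
    (fun k m hm => by rw [List.mem_singleton] at hm; rw [hm]; exact ent_lt _ _)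
    (fun k => sg_mset _) vals (fun g hg _ b hb => by
      change (g • b).card = 2; rw [card_smul_finset']; exact hb) (fun _ h => h)
    (fun k hk => ⟨fun _ => duadF.mem k hk, fun _ => rfl⟩) T sizes h hlt hcnt

theorem smul_Cs {g : Equiv.Perm GolayPt} (hg : g ∈ M24) {s : Finset GolayPt} : g • s ∈ Cs ↔ s ∈ Cs :=
  smul_mem_supports hg

theorem smul_sextet {g : Equiv.Perm GolayPt} (hg : g ∈ M24) {S : Finset (Finset GolayPt)}
    (hS : S ∈ sextets) : g • S ∈ sextets := by
  obtain ⟨h1, h2, h3⟩ := hS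
  refine ⟨by rw [card_smul_fam, h1], ?_, ?_⟩
  · intro t ht
    obtain ⟨u, hu, rfl⟩ := Finset.mem_smul_finset.1 ht
    rw [card_smul_finset', h2 u hu]
  · intro t ht t' ht' hne
    obtain ⟨u, hu, rfl⟩ := Finset.mem_smul_finset.1 ht
    obtain ⟨u', hu', rfl⟩ := Finset.mem_smul_finset.1 ht'
    rw [← Finset.smul_finset_union, smul_octad hg]
    exact h3 u hu u' hu' (fun h => hne (by rw [h]))

theorem smul_trio {g : Equiv.Perm GolayPt} (hg : g ∈ M24) {S : Finset (Finset GolayPt)}
    (hS : S ∈ trios) : g • S ∈ trios := by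
  obtain ⟨h1, h2, h3⟩ := hS
  refine ⟨by rw [card_smul_fam, h1], ?_, ?_⟩
  · intro t ht
    obtain ⟨u, hu, rfl⟩ := Finset.mem_smul_finset.1 ht
    exact (smul_octad hg).2 (h2 u hu)
  · intro t ht t' ht' hne
    obtain ⟨u, hu, rfl⟩ := Finset.mem_smul_finset.1 ht
    obtain ⟨u', hu', rfl⟩ := Finset.mem_smul_finset.1 ht'
    rw [Finset.disjoint_iff_inter_eq_empty, ← Finset.smul_finset_inter,
      Finset.disjoint_iff_inter_eq_empty.1 (h3 u hu u' hu' (fun h => hne (by rw [h])))]
    rfl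

theorem smul_pair (g : Equiv.Perm GolayPt) (s t : Finset GolayPt) :
    g • ({s, t} : Finset (Finset GolayPt)) = {g • s, g • t} := by
  ext x
  simp only [Finset.mem_smul_finset, Finset.mem_insert, Finset.mem_singleton]
  constructor
  · rintro ⟨y, rfl | rfl, rfl⟩ <;> simp
  · rintro (rfl | rfl)
    · exact ⟨s, Or.inl rfl, rfl⟩
    · exact ⟨t, Or.inr rfl, rfl⟩

theorem smul_compl' (g : Equiv.Perm GolayPt) (s : Finset GolayPt) : g • sᶜ = (g • s)ᶜ := by
  ext x
  rw [Finset.mem_compl, Finset.mem_smul_finset, Finset.mem_smul_finset]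
  constructor
  · rintro ⟨y, hy, rfl⟩ ⟨z, hz, e⟩
    rw [Finset.mem_compl] at hy
    exact hy (by rwa [← smul_left_cancel g e])
  · intro h
    refine ⟨g⁻¹ • x, ?_, smul_inv_smul _ _⟩
    rw [Finset.mem_compl]
    intro h'
    exact h ⟨_, h', smul_inv_smul _ _⟩

theorem smul_dpair {g : Equiv.Perm GolayPt} (hg : g ∈ M24) {S : Finset (Finset GolayPt)}
    (hS : S ∈ dpairs) : g • S ∈ dpairs := by
  obtain ⟨d, hd, rfl⟩ := hS
  exact ⟨g • d, (smul_dodecad hg).2 hd, by rw [smul_pair, smul_compl']⟩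

/-- sextets (whole family) -/
theorem mk_sext {FA : Set α} (A0 : α) (hA : ∀ a ∈ FA, ∃ h ∈ M24, h • A0 = a)
    (gs roots : List ℕ) (hgs : ∀ P ∈ gs, ∃ g ∈ M24, Agrees g P ∧ g • A0 = A0)
    (eA : α → Finset (Finset GolayPt)) (heA : ∀ (g : Equiv.Perm GolayPt) a, eA (g • a) = g • eA a)
    (LA : List ℕ) (hLA : incrL LA = true) (hLA' : LA.all (fun m => Nat.ble (m + 1) 16777216) = true)
    (hA0 : eA A0 = objL LA) (vals : List ℕ) (T : ℕ) (sizes : List ℕ)
    (h : chkAll (rstep 6 sextT) 1771 (fun _ => true) gs roots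
      (fun k => find vals (isumL LA (row 6 sextT k))) T = true)
    (hlt : labLt 1771 T sizes.length = true) (hcnt : cntOK 1771 (fun _ => true) T sizes = true) :
    Orbs M24 FA (fun _ => sextets) (fun a b => find vals (isum (eA a) (id b))) sizes.length (szf sizes) :=
  mk_orbs sextF (rstep 6 sextT) 1771 rfl rfl (fun _ => true) A0 hA gs roots hgs eA id heA id_smul LA hLA
    hLA' hA0 (fun k => row 6 sextT k) (rowsOK_iff (by decide) sext_rows).1
    (fun k m hm => row_lt hm) (fun k => rfl) vals (fun g hg _ b hb => smul_sextet hg hb) (fun _ h => h)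
    (fun k hk => ⟨fun _ => sextF.mem k hk, fun _ => rfl⟩) T sizes h hlt hcnt

/-- trios (whole family) -/
theorem mk_trio' {FA : Set α} (A0 : α) (hA : ∀ a ∈ FA, ∃ h ∈ M24, h • A0 = a)
    (gs roots : List ℕ) (hgs : ∀ P ∈ gs, ∃ g ∈ M24, Agrees g P ∧ g • A0 = A0)
    (eA : α → Finset (Finset GolayPt)) (heA : ∀ (g : Equiv.Perm GolayPt) a, eA (g • a) = g • eA a)
    (LA : List ℕ) (hLA : incrL LA = true) (hLA' : LA.all (fun m => Nat.ble (m + 1) 16777216) = true)
    (hA0 : eA A0 = objL LA) (vals : List ℕ) (T : ℕ) (sizes : List ℕ)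
    (h : chkAll (rstep 3 trioT) 3795 (fun _ => true) gs roots
      (fun k => find vals (isumL LA (row 3 trioT k))) T = true)
    (hlt : labLt 3795 T sizes.length = true) (hcnt : cntOK 3795 (fun _ => true) T sizes = true) :
    Orbs M24 FA (fun _ => trios) (fun a b => find vals (isum (eA a) (id b))) sizes.length (szf sizes) :=
  mk_orbs trioF (rstep 3 trioT) 3795 rfl rfl (fun _ => true) A0 hA gs roots hgs eA id heA id_smul LA hLA
    hLA' hA0 (fun k => row 3 trioT k) (rowsOK_iff (by decide) trio_rows).1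
    (fun k m hm => row_lt hm) (fun k => rfl) vals (fun g hg _ b hb => smul_trio hg hb) (fun _ h => h)
    (fun k hk => ⟨fun _ => trioF.mem k hk, fun _ => rfl⟩) T sizes h hlt hcnt

/-- dodecad pairs (whole family) -/
theorem mk_dpair {FA : Set α} (A0 : α) (hA : ∀ a ∈ FA, ∃ h ∈ M24, h • A0 = a)
    (gs roots : List ℕ) (hgs : ∀ P ∈ gs, ∃ g ∈ M24, Agrees g P ∧ g • A0 = A0)
    (eA : α → Finset (Finset GolayPt)) (heA : ∀ (g : Equiv.Perm GolayPt) a, eA (g • a) = g • eA a)
    (LA : List ℕ) (hLA : incrL LA = true) (hLA' : LA.all (fun m => Nat.ble (m + 1) 16777216) = true)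
    (hA0 : eA A0 = objL LA) (vals : List ℕ) (T : ℕ) (sizes : List ℕ)
    (h : chkAll (rstep 2 dpairT) 1288 (fun _ => true) gs roots
      (fun k => find vals (isumL LA (row 2 dpairT k))) T = true)
    (hlt : labLt 1288 T sizes.length = true) (hcnt : cntOK 1288 (fun _ => true) T sizes = true) :
    Orbs M24 FA (fun _ => dpairs) (fun a b => find vals (isum (eA a) (id b))) sizes.length (szf sizes) :=
  mk_orbs dpairF (rstep 2 dpairT) 1288 rfl rfl (fun _ => true) A0 hA gs roots hgs eA id heA id_smul LA hLA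
    hLA' hA0 (fun k => row 2 dpairT k) (rowsOK_iff (by decide) dpair_rows).1
    (fun k m hm => row_lt hm) (fun k => rfl) vals (fun g hg _ b hb => smul_dpair hg hb) (fun _ h => h)
    (fun k hk => ⟨fun _ => dpairF.mem k hk, fun _ => rfl⟩) T sizes h hlt hcnt

end CfsgL.Orb
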