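import Cfsg.Agent.L.Orb.Enum
import Cfsg.Agent.L.Orb.Mk
/-!
Classes of elements of order two and three: fixed points, numbers of fixed objects.
-/
set_option autoImplicit false
namespace CfsgL.Orb
open Cfsg CfsgL.Comp CfsgL.Golay
open scoped Pointwise

/-- the set of fixed points -/
def fixset (g : Equiv.Perm GolayPt) : Finset GolayPt := Finset.univ.filter (fun p => g p = p)

theorem mem_fixset {g : Equiv.Perm GolayPt} {p : GolayPt} : p ∈ fixset g ↔ g p = p := by
  unfold fixset; simp

theorem fixset_conj (g h : Equiv.Perm GolayPt) : fixset (h * g * h⁻¹) = h • fixset g := by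
  ext p
  rw [mem_fixset, ← Finset.inv_smul_mem_iff, mem_fixset, Equiv.Perm.smul_def, Equiv.Perm.mul_apply,
    Equiv.Perm.mul_apply]
  constructor
  · intro h1
    apply h.injective
    rw [h1]
    simp
  · intro h1
    rw [h1]
    simp

/-- mask of the fixed points -/
def fixOK (P m : ℕ) : Bool := allR (fun i => Bool.and (Bool.or (Bool.not (Nat.beq (papp P i) i))
  (Nat.testBit m i)) (Bool.or (Bool.not (Nat.testBit m i)) (Nat.beq (papp P i) i))) 24

theorem fixset_eq {g : Equiv.Perm GolayPt} {P m : ℕ} (a : Agrees g P) (h : fixOK P m = true) :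
    fixset g = mset m := by
  unfold fixOK at h
  rw [allR_iff] at h
  ext p
  rw [mem_fixset, mem_mset]
  have h1 := h _ (toIdx_lt p)
  rw [Bool.and_eq_true, Bool.or_eq_true, Bool.or_eq_true, natBeq_iff, Bool.not_eq_true',
    Bool.not_eq_true', ← Bool.not_eq_true, ← Bool.not_eq_true, natBeq_iff] at h1
  rw [← toIdx_inj, a.apply]
  tauto

/-- representatives -/
noncomputable def r0 : Equiv.Perm GolayPt := ofP (repI.getD 0 pone)
noncomputable def r1 : Equiv.Perm GolayPt := ofP (repI.getD 1 pone)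
noncomputable def t0 : Equiv.Perm GolayPt := ofP (repT.getD 0 pone)
noncomputable def t1 : Equiv.Perm GolayPt := ofP (repT.getD 1 pone)

theorem r0_spec : r0 ∈ M24 ∧ Agrees r0 (repI.getD 0 pone) := ofP_spec (by decide +kernel)
theorem r1_spec : r1 ∈ M24 ∧ Agrees r1 (repI.getD 1 pone) := ofP_spec (by decide +kernel)
theorem t0_spec : t0 ∈ M24 ∧ Agrees t0 (repT.getD 0 pone) := ofP_spec (by decide +kernel)
theorem t1_spec : t1 ∈ M24 ∧ Agrees t1 (repT.getD 1 pone) := ofP_spec (by decide +kernel)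

theorem fixset_r0 : fixset r0 = mset 0x742a40 := fixset_eq r0_spec.2 (by decide +kernel)
theorem fixset_r1 : fixset r1 = ∅ := by
  rw [fixset_eq (m := 0) r1_spec.2 (by decide +kernel)]
  ext p; simp [mem_mset]
theorem fixset_t0 : fixset t0 = mset 0x124150 := fixset_eq t0_spec.2 (by decide +kernel)
theorem fixset_t1 : fixset t1 = ∅ := by
  rw [fixset_eq (m := 0) t1_spec.2 (by decide +kernel)]
  ext p; simp [mem_mset]

theorem fixset_r0_octad : fixset r0 ∈ octads := by
  rw [fixset_r0]; exact mem_octads_mset (by decide +kernel) (by decide +kernel)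
theorem card_fixset_t0 : (fixset t0).card = 6 := by
  rw [fixset_t0, card_mset]; decide +kernel

theorem sq_of_order {g : Equiv.Perm GolayPt} (h : orderOf g = 2) : g * g = 1 ∧ g ≠ 1 := by
  constructor
  · rw [← pow_two, ← h, pow_orderOf_eq_one]
  · intro h1
    rw [h1, orderOf_one] at h
    omega

theorem cube_of_order {g : Equiv.Perm GolayPt} (h : orderOf g = 3) : g * (g * g) = 1 ∧ g ≠ 1 := by
  constructor
  · have : g ^ 3 = 1 := by rw [← h, pow_orderOf_eq_one]
    rw [← this, pow_succ, pow_two, mul_assoc]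
  · intro h1
    rw [h1, orderOf_one] at h
    omega

/-- an involution is conjugate to one of the two representatives, told apart by the fixed points -/
theorem inv_cases {g : Equiv.Perm GolayPt} (hg : g ∈ M24) (h : orderOf g = 2) :
    (fixset g ∈ octads ∧ ∃ k ∈ M24, k * g * k⁻¹ = r0) ∨ (fixset g = ∅ ∧ ∃ k ∈ M24, k * g * k⁻¹ = r1) := by
  obtain ⟨h1, h2⟩ := sq_of_order h
  obtain ⟨j, hj, k, hk, e⟩ := inv_conj hg h1 h2
  have hfix : fixset g = k⁻¹ • fixset (k * g * k⁻¹) := by
    rw [fixset_conj, inv_smul_smul]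
  have hj' : j = 0 ∨ j = 1 := by omega
  rcases hj' with rfl | rfl
  · left
    refine ⟨?_, k, hk, e⟩
    rw [hfix, smul_octad (M24.inv_mem hk), e]
    exact fixset_r0_octad
  · right
    refine ⟨?_, k, hk, e⟩
    rw [hfix, e]
    change k⁻¹ • fixset r1 = ∅
    rw [fixset_r1]; rfl

theorem three_cases {g : Equiv.Perm GolayPt} (hg : g ∈ M24) (h : orderOf g = 3) :
    ((fixset g).card = 6 ∧ ∃ k ∈ M24, k * g * k⁻¹ = t0) ∨ (fixset g = ∅ ∧ ∃ k ∈ M24, k * g * k⁻¹ = t1) := by
  obtain ⟨h1, h2⟩ := cube_of_order h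
  obtain ⟨j, hj, k, hk, e⟩ := three_conj hg h1 h2
  have hfix : fixset g = k⁻¹ • fixset (k * g * k⁻¹) := by
    rw [fixset_conj, inv_smul_smul]
  have hj' : j = 0 ∨ j = 1 := by omega
  rcases hj' with rfl | rfl
  · left
    refine ⟨?_, k, hk, e⟩
    rw [hfix, card_smul_finset', e]
    exact card_fixset_t0
  · right
    refine ⟨?_, k, hk, e⟩
    rw [hfix, e]
    change k⁻¹ • fixset t1 = ∅
    rw [fixset_t1]; rfl

theorem order_r0 : orderOf r0 = 2 := by
  have h : r0 * r0 = 1 := by
    ext p : 1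
    rw [← toIdx_inj, Equiv.Perm.mul_apply, r0_spec.2.apply, r0_spec.2.apply]
    have : isInv (repI.getD 0 pone) = true := by decide +kernel
    unfold isInv at this
    rw [allR_iff] at this
    exact natBeq_iff.1 (this _ (toIdx_lt p))
  apply orderOf_eq_prime (by rw [pow_two, h])
  intro h1
  have := fixset_r0_octad
  rw [h1] at this
  have h2 : fixset (1 : Equiv.Perm GolayPt) = Finset.univ := by
    ext p; simp [mem_fixset]
  rw [h2] at this
  have := card_octad this
  rw [Finset.card_univ, card_pt] at this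
  omega

theorem order_r1 : orderOf r1 = 2 := by
  have h : r1 * r1 = 1 := by
    ext p : 1
    rw [← toIdx_inj, Equiv.Perm.mul_apply, r1_spec.2.apply, r1_spec.2.apply]
    have : isInv (repI.getD 1 pone) = true := by decide +kernel
    unfold isInv at this
    rw [allR_iff] at this
    exact natBeq_iff.1 (this _ (toIdx_lt p))
  apply orderOf_eq_prime (by rw [pow_two, h])
  intro h1
  have := fixset_r1
  rw [h1] at this
  have h2 : fixset (1 : Equiv.Perm GolayPt) = Finset.univ := by
    ext p; simp [mem_fixset]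
  rw [h2] at this
  exact absurd this (Finset.univ_nonempty.ne_empty)

theorem three_fact {P : ℕ} {g : Equiv.Perm GolayPt} (a : Agrees g P) (hc : isCub P = true)
    (hne : fixset g ≠ Finset.univ) : orderOf g = 3 := by
  have h : g ^ 3 = 1 := by
    have : g ^ 3 = g * (g * g) := by rw [pow_succ, pow_two, mul_assoc]
    rw [this]
    ext p : 1
    rw [← toIdx_inj, Equiv.Perm.mul_apply, Equiv.Perm.mul_apply, a.apply, a.apply, a.apply]
    unfold isCub at hc
    rw [allR_iff] at hc
    exact natBeq_iff.1 (hc _ (toIdx_lt p))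
  apply orderOf_eq_prime h
  intro h1
  apply hne
  rw [h1]
  ext p; simp [mem_fixset]

theorem order_t0 : orderOf t0 = 3 := three_fact t0_spec.2 (by decide +kernel) (by
  intro h
  have := card_fixset_t0
  rw [h, Finset.card_univ, card_pt] at this
  omega)

theorem order_t1 : orderOf t1 = 3 := three_fact t1_spec.2 (by decide +kernel) (by
  rw [fixset_t1]; exact Finset.univ_nonempty.ne_empty.symm)

/-! ### numbers of fixed objects -/

variable {β : Type} [MulAction (Equiv.Perm GolayPt) β]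

theorem fixed_conj {F : Set β} (hF : ∀ g ∈ M24, ∀ b ∈ F, g • b ∈ F) {g h : Equiv.Perm GolayPt}
    (hh : h ∈ M24) : {b | b ∈ F ∧ g • b = b}.ncard = {b | b ∈ F ∧ (h * g * h⁻¹) • b = b}.ncard := by
  have : {b | b ∈ F ∧ (h * g * h⁻¹) • b = b} = h • {b | b ∈ F ∧ g • b = b} := by
    ext b
    rw [Set.mem_smul_set_iff_inv_smul_mem, Set.mem_ofPred_eq, Set.mem_ofPred_eq]
    constructor
    · rintro ⟨h1, h2⟩
      refine ⟨hF _ (M24.inv_mem hh) _ h1, ?_⟩
      rw [mul_smul, mul_smul, ← eq_inv_smul_iff] at h2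
      exact h2
    · rintro ⟨h1, h2⟩
      refine ⟨?_, ?_⟩
      · have := hF _ hh _ h1
        rwa [smul_inv_smul] at this
      · rw [mul_smul, mul_smul, h2, smul_inv_smul]
  rw [this, Set.ncard_smul_set]

theorem fixed_count {F : Set β} (B : Fam F) (step : ℕ → ℕ → ℕ → Bool) (n : ℕ) (hn : B.n = n)
    (hstep : B.step = step) {g : Equiv.Perm GolayPt} {P : ℕ} (a : Agrees g P)
    (hcomp : ∀ i < n, g • B.obj i = B.obj i → step P i i = true) (m : ℕ)
    (hm : cntD (fun k => Bool.and (Nat.ble (k + 1) n) (step P k k)) 12 0 = m) :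
    {b | b ∈ F ∧ g • b = b}.ncard = m := by
  subst hn hstep
  rw [← hm, cntD_zero_eq, ← Set.ncard_coe_finset]
  have him : {b | b ∈ F ∧ g • b = b} = B.obj ''
      (↑((Finset.range (2 ^ 12)).filter (fun k => Bool.and (Nat.ble (k + 1) B.n) (B.step P k k) = true)) : Set ℕ) := by
    ext b
    simp only [Set.mem_image, Finset.mem_coe, Finset.mem_filter, Finset.mem_range,
      Bool.and_eq_true, natBle_iff, Set.mem_ofPred_eq]
    constructor
    · rintro ⟨h1, h2⟩
      obtain ⟨k, hk, rfl⟩ := B.surj b h1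
      exact ⟨k, ⟨lt_of_lt_of_le hk B.n_le, hk, hcomp k hk h2⟩, rfl⟩
    · rintro ⟨k, ⟨_, h1, h2⟩, rfl⟩
      exact ⟨B.mem k h1, B.sound g P a k h1 k h1 h2⟩
  rw [him, Set.ncard_image_of_injOn]
  intro k hk k' hk' h5
  simp only [Finset.mem_coe, Finset.mem_filter, Finset.mem_range,
      Bool.and_eq_true, natBle_iff] at hk hk'
  exact B.inj k (by omega) k' (by omega) h5

theorem mstep_complete {g : Equiv.Perm GolayPt} {P T i j : ℕ} (a : Agrees g P)
    (h : g • mset (ent T i) = mset (ent T j)) : mstep T P i j = true := by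
  unfold mstep
  rw [← a.mset_img, mset_inj (a.img_lt _) (ent_lt _ _)] at h
  rw [natBeq_iff, h]

theorem rstep_complete {g : Equiv.Perm GolayPt} {P w T i j : ℕ} (a : Agrees g P)
    (h : g • objL (row w T i) = objL (row w T j)) : rstep w T P i j = true := by
  unfold rstep subImg
  rw [List.all_eq_true]
  intro m hm
  rw [force_eq, List.any_eq_true]
  have h1 : g • mset m ∈ objL (row w T j) := by
    rw [← h]; exact Finset.smul_mem_smul_finset (mem_objL.2 ⟨m, hm, rfl⟩)
  rw [mem_objL] at h1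
  obtain ⟨y, hy, e⟩ := h1
  refine ⟨y, hy, ?_⟩
  rw [← a.mset_img, mset_inj (row_lt hy) (a.img_lt _)] at e
  rw [natBeq_iff, e]

theorem fix_oct {g : Equiv.Perm GolayPt} {P : ℕ} (a : Agrees g P) (m : ℕ)
    (hm : cntD (fun k => Bool.and (Nat.ble (k + 1) 759) (mstep octT P k k)) 12 0 = m) :
    {b | b ∈ octads ∧ g • b = b}.ncard = m :=
  fixed_count octF (mstep octT) 759 rfl rfl a (fun _ _ h => mstep_complete a h) m hm

theorem fix_dod {g : Equiv.Perm GolayPt} {P : ℕ} (a : Agrees g P) (m : ℕ)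
    (hm : cntD (fun k => Bool.and (Nat.ble (k + 1) 2576) (mstep dodT P k k)) 12 0 = m) :
    {b | b ∈ dodecads ∧ g • b = b}.ncard = m :=
  fixed_count dodF (mstep dodT) 2576 rfl rfl a (fun _ _ h => mstep_complete a h) m hm

theorem fix_sext {g : Equiv.Perm GolayPt} {P : ℕ} (a : Agrees g P) (m : ℕ)
    (hm : cntD (fun k => Bool.and (Nat.ble (k + 1) 1771) (rstep 6 sextT P k k)) 12 0 = m) :
    {b | b ∈ sextets ∧ g • b = b}.ncard = m :=
  fixed_count sextF (rstep 6 sextT) 1771 rfl rfl a (fun _ _ h => rstep_complete a h) m hm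

theorem fix_trio {g : Equiv.Perm GolayPt} {P : ℕ} (a : Agrees g P) (m : ℕ)
    (hm : cntD (fun k => Bool.and (Nat.ble (k + 1) 3795) (rstep 3 trioT P k k)) 12 0 = m) :
    {b | b ∈ trios ∧ g • b = b}.ncard = m :=
  fixed_count trioF (rstep 3 trioT) 3795 rfl rfl a (fun _ _ h => rstep_complete a h) m hm

end CfsgL.Orb
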