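import Cfsg.Agent.L.Golay.Hexads
import Cfsg.Agent.L.Triangle
import Cfsg.Prelude.Def_SporadicCombinatorics
/-!
Sextets and trios: basic theory and counts.
-/
set_option autoImplicit false
namespace CfsgL.Orb
open Cfsg CfsgL.Comp CfsgL.Golay
open scoped Pointwise

/-- supports of code words -/
abbrev Cs : Set (Finset GolayPt) := supports (golayCode : Set (GolayPt → ZMod 2))

theorem empty_mem_Cs : (∅ : Finset GolayPt) ∈ Cs := by
  have := symmDiff_mem_supports univ_mem_supports univ_mem_supports
  rwa [symmDiff_self] at this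

theorem Cs_symm {s t : Finset GolayPt} (h : symmDiff s t ∈ Cs) : symmDiff t s ∈ Cs := by
  rwa [symmDiff_comm]

theorem Cs_trans {s t u : Finset GolayPt} (h : symmDiff s t ∈ Cs) (h' : symmDiff t u ∈ Cs) :
    symmDiff s u ∈ Cs := by
  have := symmDiff_mem_supports h h'
  rwa [symmDiff_assoc, symmDiff_symmDiff_cancel_left] at this

theorem card_pt : Fintype.card GolayPt = 24 := by decide

/-- the class of a tetrad -/
noncomputable def cls (t : Finset GolayPt) : Finset (Finset GolayPt) := by
  classical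
  exact Finset.univ.filter (fun u => u.card = 4 ∧ symmDiff t u ∈ Cs)

theorem mem_cls {t u : Finset GolayPt} : u ∈ cls t ↔ u.card = 4 ∧ symmDiff t u ∈ Cs := by
  unfold cls; simp

theorem pair_of_Cs {t u : Finset GolayPt} (ht : t.card = 4) (hu : u.card = 4)
    (h : symmDiff t u ∈ Cs) : t = u ∨ (Disjoint t u ∧ t ∪ u ∈ octads) := by
  have h1 := card_symmDiff_add t u
  have h2 := card_of_mem_supports h
  by_cases h3 : (symmDiff t u).card = 0
  · left
    rw [Finset.card_eq_zero] at h3
    exact symmDiff_eq_bot.1 h3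
  · right
    have h4 : (t ∩ u).card = 0 := by omega
    have h5 : Disjoint t u := by
      rw [Finset.disjoint_iff_inter_eq_empty]
      exact Finset.card_eq_zero.1 h4
    refine ⟨h5, ?_⟩
    have h6 : symmDiff t u = t ∪ u := by
      rw [Disjoint.symmDiff_eq_sup h5]; rfl
    rw [h6] at h
    exact mem_octads'.2 ⟨h, by rw [Finset.card_union_of_disjoint h5, ht, hu]⟩

theorem Cs_of_pair {t u : Finset GolayPt} (ht : t.card = 4) (hu : u.card = 4)
    (h : t ∪ u ∈ octads) : Disjoint t u ∧ symmDiff t u ∈ Cs := by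
  obtain ⟨h1, h2⟩ := mem_octads'.1 h
  have h3 := Finset.card_union_add_card_inter t u
  have h5 : Disjoint t u := by
    rw [Finset.disjoint_iff_inter_eq_empty]
    exact Finset.card_eq_zero.1 (by omega)
  refine ⟨h5, ?_⟩
  have h6 : symmDiff t u = t ∪ u := by
    rw [Disjoint.symmDiff_eq_sup h5]; rfl
  rw [h6]
  exact h1

theorem cls_cover {t : Finset GolayPt} (ht : t.card = 4) (p : GolayPt) :
    ∃ u ∈ cls t, p ∈ u := by
  by_cases hp : p ∈ t
  · exact ⟨t, mem_cls.2 ⟨ht, by rw [symmDiff_self]; exact empty_mem_Cs⟩, hp⟩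
  · obtain ⟨O, hO, h1, _⟩ := exists_octad (insert p t) ∅ (Finset.disjoint_empty_right _)
      (by rw [Finset.card_insert_of_notMem hp, ht]; simp)
    rw [Finset.insert_subset_iff] at h1
    refine ⟨O \ t, mem_cls.2 ⟨?_, ?_⟩, Finset.mem_sdiff.2 ⟨h1.1, hp⟩⟩
    · rw [Finset.card_sdiff_of_subset h1.2, ht, (mem_octads'.1 hO).2]
    · have : symmDiff t (O \ t) = O := by
        rw [symmDiff_sdiff_eq_sup]
        exact Finset.union_eq_right.2 h1.2
      rw [this]
      exact (mem_octads'.1 hO).1

theorem self_mem_cls {t : Finset GolayPt} (ht : t.card = 4) : t ∈ cls t :=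
  mem_cls.2 ⟨ht, by rw [symmDiff_self]; exact empty_mem_Cs⟩

theorem cls_pair {t u v : Finset GolayPt} (hu : u ∈ cls t) (hv : v ∈ cls t) :
    u = v ∨ (Disjoint u v ∧ u ∪ v ∈ octads) := by
  rw [mem_cls] at hu hv
  exact pair_of_Cs hu.1 hv.1 (Cs_trans (Cs_symm hu.2) hv.2)

theorem card_cls {t : Finset GolayPt} (ht : t.card = 4) : (cls t).card = 6 := by
  have h1 : (cls t).biUnion id = Finset.univ := by
    rw [Finset.eq_univ_iff_forall]
    intro p
    obtain ⟨u, hu, hp⟩ := cls_cover ht p
    exact Finset.mem_biUnion.2 ⟨u, hu, hp⟩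
  have h2 : ((cls t).biUnion id).card = ∑ u ∈ cls t, u.card := by
    apply Finset.card_biUnion
    intro u hu v hv huv
    rcases cls_pair hu hv with h | h
    · exact absurd h huv
    · exact h.1
  rw [h1, Finset.card_univ, card_pt, Finset.sum_congr rfl (fun u hu => (mem_cls.1 hu).1),
    Finset.sum_const, smul_eq_mul] at h2
  omega

theorem cls_mem {t : Finset GolayPt} (ht : t.card = 4) : cls t ∈ sextets := by
  refine ⟨card_cls ht, fun u hu => (mem_cls.1 hu).1, ?_⟩
  intro u hu v hv huv
  rcases cls_pair hu hv with h | h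
  · exact absurd h huv
  · exact h.2

theorem sextet_eq {S : Finset (Finset GolayPt)} (hS : S ∈ sextets) {t : Finset GolayPt} (ht : t ∈ S) :
    S = cls t := by
  obtain ⟨h1, h2, h3⟩ := hS
  have hsub : S ⊆ cls t := by
    intro u hu
    rw [mem_cls]
    refine ⟨h2 u hu, ?_⟩
    by_cases htu : t = u
    · rw [htu, symmDiff_self]; exact empty_mem_Cs
    · exact (Cs_of_pair (h2 t ht) (h2 u hu) (h3 t ht u hu htu)).2
  exact Finset.eq_of_subset_of_card_le hsub (by rw [card_cls (h2 t ht), h1])

theorem exists_unique_sextet (t : Finset GolayPt) (ht : t.card = 4) :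
    ∃! S : Finset (Finset GolayPt), S ∈ sextets ∧ t ∈ S :=
  ⟨cls t, ⟨cls_mem ht, self_mem_cls ht⟩, fun _ h => sextet_eq h.1 h.2⟩

theorem sextets_ncard : sextets.ncard = 1771 := by
  classical
  have hfin : sextets.Finite := Set.toFinite _
  set F := hfin.toFinset with hF
  have hmem : ∀ S, S ∈ F ↔ S ∈ sextets := fun S => by rw [hF, Set.Finite.mem_toFinset]
  have h1 : F.biUnion id = (Finset.univ : Finset GolayPt).powersetCard 4 := by
    ext t
    simp only [Finset.mem_biUnion, id, Finset.mem_powersetCard, Finset.subset_univ, true_and]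
    constructor
    · rintro ⟨S, hS, ht⟩
      exact ((hmem S).1 hS).2.1 t ht
    · intro ht
      exact ⟨cls t, (hmem _).2 (cls_mem ht), self_mem_cls ht⟩
  have h2 : (F.biUnion id).card = ∑ S ∈ F, S.card := by
    apply Finset.card_biUnion
    intro S hS S' hS' hne
    rw [Function.onFun, Finset.disjoint_left]
    intro t ht ht'
    exact hne ((sextet_eq ((hmem S).1 hS) ht).trans (sextet_eq ((hmem S').1 hS') ht').symm)
  rw [h1, Finset.card_powersetCard, Finset.card_univ, card_pt,
    Finset.sum_congr rfl (fun S hS => ((hmem S).1 hS).1), Finset.sum_const, smul_eq_mul] at h2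
  have h3 : Nat.choose 24 4 = 10626 := by decide +kernel
  rw [Set.ncard_eq_toFinset_card _ hfin]
  change F.card = 1771
  omega

theorem disjoint_octads {o o' : Finset GolayPt} (ho : o ∈ octads) (ho' : o' ∈ octads)
    (h : Disjoint o o') : (o ∪ o')ᶜ ∈ octads := by
  obtain ⟨h1, h2⟩ := mem_octads'.1 ho
  obtain ⟨h3, h4⟩ := mem_octads'.1 ho'
  have h6 : symmDiff o o' = o ∪ o' := by
    rw [Disjoint.symmDiff_eq_sup h]; rfl
  have h5 := symmDiff_mem_supports h1 h3
  rw [h6] at h5
  refine mem_octads'.2 ⟨compl_mem_supports h5, ?_⟩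
  rw [Finset.card_compl, Finset.card_union_of_disjoint h, h2, h4, card_pt]

theorem O0_disjoint_count :
    {s : Finset GolayPt | s ∈ octads ∧ (s ∩ O0).card = 0}.ncard = 30 :=
  ncard_wk 8 0x82402f 0 30 (by decide +kernel)

theorem disjoint_count {o : Finset GolayPt} (ho : o ∈ octads) :
    {s : Finset GolayPt | s ∈ octads ∧ (s ∩ o).card = 0}.ncard = 30 := by
  obtain ⟨g, hg, h⟩ := octad_trans ho O0_mem
  have := ncard_inter_transfer hg 8 0 o
  rw [h] at this
  exact this.trans O0_disjoint_count

/-- two members of a trio determine the third -/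
theorem trio_eq {T : Finset (Finset GolayPt)} (hT : T ∈ trios) {o o' : Finset GolayPt} (ho : o ∈ T)
    (ho' : o' ∈ T) (hne : o ≠ o') : T = {o, o', (o ∪ o')ᶜ} := by
  obtain ⟨h1, h2, h3⟩ := hT
  obtain ⟨c, hc, hco, hco'⟩ : ∃ c ∈ T, c ≠ o ∧ c ≠ o' := by
    have : ((T.erase o).erase o').Nonempty := by
      rw [← Finset.card_pos, Finset.card_erase_of_mem (Finset.mem_erase.2 ⟨hne.symm, ho'⟩),
        Finset.card_erase_of_mem ho, h1]
      omega
    obtain ⟨c, hc⟩ := this
    rw [Finset.mem_erase, Finset.mem_erase] at hc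
    exact ⟨c, hc.2.2, hc.2.1, hc.1⟩
  have hd1 := h3 o ho o' ho' hne
  have hd2 := h3 o ho c hc hco.symm
  have hd3 := h3 o' ho' c hc hco'.symm
  have hc' : c = (o ∪ o')ᶜ := by
    apply Finset.eq_of_subset_of_card_le
    · intro p hp
      rw [Finset.mem_compl, Finset.mem_union]
      rintro (h | h)
      · exact Finset.disjoint_left.1 hd2 h hp
      · exact Finset.disjoint_left.1 hd3 h hp
    · rw [(mem_octads'.1 (disjoint_octads (h2 o ho) (h2 o' ho') hd1)).2, (mem_octads'.1 (h2 c hc)).2]
  symm
  apply Finset.eq_of_subset_of_card_le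
  · intro x hx
    simp only [Finset.mem_insert, Finset.mem_singleton] at hx
    rcases hx with rfl | rfl | rfl
    · exact ho
    · exact ho'
    · rw [← hc']; exact hc
  · rw [h1, ← hc', Finset.card_insert_of_notMem, Finset.card_insert_of_notMem, Finset.card_singleton]
    · simpa using hco'.symm
    · simp only [Finset.mem_insert, Finset.mem_singleton]
      rintro (h | h)
      · exact hne h
      · exact hco h.symm

theorem mk_trio {o o' : Finset GolayPt} (ho : o ∈ octads) (ho' : o' ∈ octads)
    (h : Disjoint o o') : ({o, o', (o ∪ o')ᶜ} : Finset (Finset GolayPt)) ∈ trios := by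
  have hc := disjoint_octads ho ho' h
  have hd1 : Disjoint o ((o ∪ o')ᶜ) := by
    rw [Finset.disjoint_left]
    intro p hp hp'
    rw [Finset.mem_compl, Finset.mem_union] at hp'
    exact hp' (Or.inl hp)
  have hd2 : Disjoint o' ((o ∪ o')ᶜ) := by
    rw [Finset.disjoint_left]
    intro p hp hp'
    rw [Finset.mem_compl, Finset.mem_union] at hp'
    exact hp' (Or.inr hp)
  have hne : ∀ {a b : Finset GolayPt}, a ∈ octads → Disjoint a b → a ≠ b := by
    rintro a b ha hab rfl
    have h1 := (mem_octads'.1 ha).2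
    rw [Finset.disjoint_self_iff_empty] at hab
    rw [hab] at h1
    simp at h1
  refine ⟨?_, ?_, ?_⟩
  · rw [Finset.card_insert_of_notMem, Finset.card_insert_of_notMem, Finset.card_singleton]
    · simpa using hne ho' hd2
    · simp only [Finset.mem_insert, Finset.mem_singleton]
      rintro (h | h)
      · exact hne ho ‹_› h
      · exact hne ho hd1 h
  · intro x hx
    simp only [Finset.mem_insert, Finset.mem_singleton] at hx
    rcases hx with rfl | rfl | rfl
    exacts [ho, ho', hc]
  · intro x hx y hy hxy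
    simp only [Finset.mem_insert, Finset.mem_singleton] at hx hy
    rcases hx with rfl | rfl | rfl <;> rcases hy with rfl | rfl | rfl
    · exact absurd rfl hxy
    · exact h
    · exact hd1
    · exact h.symm
    · exact absurd rfl hxy
    · exact hd2
    · exact hd1.symm
    · exact hd2.symm
    · exact absurd rfl hxy

theorem trios_ncard : trios.ncard = 3795 := by
  classical
  have hfin : trios.Finite := Set.toFinite _
  set F := hfin.toFinset with hF
  have hmem : ∀ S, S ∈ F ↔ S ∈ trios := fun S => by rw [hF, Set.Finite.mem_toFinset]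
  have hofin : octads.Finite := Set.toFinite _
  set Oc := hofin.toFinset with hOc
  have hOmem : ∀ S, S ∈ Oc ↔ S ∈ octads := fun S => by rw [hOc, Set.Finite.mem_toFinset]
  have h1 : F.biUnion (fun T => T.offDiag) =
      Oc.biUnion (fun o => (Oc.filter (fun s => (s ∩ o).card = 0)).image (fun s => (o, s))) := by
    ext ⟨o, o'⟩
    simp only [Finset.mem_biUnion, Finset.mem_offDiag, Finset.mem_image, Finset.mem_filter,
      Prod.mk.injEq]
    constructor
    · rintro ⟨T, hT, h1, h2, h3⟩
      have hT' := (hmem T).1 hT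
      refine ⟨o, (hOmem o).2 (hT'.2.1 o h1), o', ⟨(hOmem o').2 (hT'.2.1 o' h2), ?_⟩, rfl, rfl⟩
      rw [Finset.card_eq_zero, ← Finset.disjoint_iff_inter_eq_empty]
      exact hT'.2.2 o' h2 o h1 (Ne.symm h3)
    · rintro ⟨a, ha, b, ⟨hb, hab⟩, rfl, rfl⟩
      rw [Finset.card_eq_zero, ← Finset.disjoint_iff_inter_eq_empty] at hab
      refine ⟨_, (hmem _).2 (mk_trio ((hOmem _).1 ha) ((hOmem _).1 hb) hab.symm), ?_, ?_, ?_⟩
      · simp
      · simp
      · rintro rfl
        have h1 := (mem_octads'.1 ((hOmem _).1 ha)).2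
        rw [Finset.disjoint_self_iff_empty] at hab
        rw [hab] at h1
        simp at h1
  have h2 : (F.biUnion (fun T => T.offDiag)).card = ∑ T ∈ F, T.offDiag.card := by
    apply Finset.card_biUnion
    intro S hS S' hS' hne
    rw [Function.onFun, Finset.disjoint_left]
    rintro ⟨a, b⟩ h3 h4
    rw [Finset.mem_offDiag] at h3 h4
    exact hne ((trio_eq ((hmem S).1 hS) h3.1 h3.2.1 h3.2.2).trans
      (trio_eq ((hmem S').1 hS') h4.1 h4.2.1 h4.2.2).symm)
  have h3 : (Oc.biUnion (fun o => (Oc.filter (fun s => (s ∩ o).card = 0)).image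
      (fun s => (o, s)))).card = ∑ o ∈ Oc, 30 := by
    rw [Finset.card_biUnion]
    · apply Finset.sum_congr rfl
      intro o ho
      rw [Finset.card_image_of_injective _ (fun a b h => (Prod.mk.inj h).2)]
      rw [← disjoint_count ((hOmem o).1 ho), ← Set.ncard_coe_finset]
      congr 1
      ext s
      simp only [Finset.coe_filter, Set.mem_ofPred_eq]
      rw [hOmem]
    · intro o ho o' ho' hne
      rw [Function.onFun, Finset.disjoint_left]
      rintro ⟨a, b⟩ h3 h4
      simp only [Finset.mem_image, Prod.mk.injEq] at h3 h4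
      obtain ⟨_, _, h5, _⟩ := h3
      obtain ⟨_, _, h6, _⟩ := h4
      exact hne (h5.trans h6.symm)
  have h4 : Oc.card = 759 := by
    rw [← octads_ncard, Set.ncard_eq_toFinset_card _ hofin]
  rw [h1, h3, Finset.sum_const, h4, Finset.sum_congr rfl (fun T hT => by
    rw [Finset.offDiag_card, ((hmem T).1 hT).1] : ∀ T ∈ F, T.offDiag.card = 3 * 3 - 3),
    Finset.sum_const] at h2
  simp only [smul_eq_mul] at h2
  rw [Set.ncard_eq_toFinset_card _ hfin]
  change F.card = 3795
  omega

end CfsgL.Orb
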