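import Cfsg.Agent.L.Orb.Tab
import Cfsg.Agent.L.Orb.Sext
/-!
Enumerated families given by tables of masks.
-/
set_option autoImplicit false
namespace CfsgL.Orb
open Cfsg CfsgL.Comp CfsgL.Golay
open scoped Pointwise

theorem ent_lt (T k : ℕ) : ent T k < 2 ^ 24 := Nat.mod_lt _ (by decide)

/-- consecutive entries increase -/
def incr (T n : ℕ) : Bool :=
  allD (fun k => Bool.or (Nat.ble n (k + 1)) (Nat.ble (ent T k + 1) (ent T (k + 1)))) 12 0

/-- all entries satisfy `f` -/
def entAll (f : ℕ → Bool) (T n : ℕ) : Bool :=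
  allD (fun k => Bool.or (Nat.ble n k) (force (ent T k) f)) 12 0

theorem entAll_iff {f : ℕ → Bool} {T n : ℕ} (hn : n ≤ 4096) (h : entAll f T n = true) :
    ∀ k < n, f (ent T k) = true := by
  intro k hk
  have := allD_lt h (x := k) (lt_of_lt_of_le hk hn)
  rw [Bool.or_eq_true, natBle_iff, force_eq] at this
  rcases this with h1 | h1
  · omega
  · exact h1

theorem incr_of {f : ℕ → ℕ} {n : ℕ} (h : ∀ k, k + 1 < n → f k < f (k + 1)) :
    ∀ j k, j < k → k < n → f j < f k := by
  intro j k hjk
  induction k with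
  | zero => omega
  | succ k ih =>
    intro hk
    have h1 := h k hk
    rcases Nat.lt_or_ge j k with h2 | h2
    · exact lt_trans (ih h2 (by omega)) h1
    · have : j = k := by omega
      rw [this]; exact h1

theorem inj_of_incr {f : ℕ → ℕ} {n : ℕ} (h : ∀ k, k + 1 < n → f k < f (k + 1)) :
    ∀ i < n, ∀ j < n, f i = f j → i = j := by
  intro i hi j hj hij
  rcases lt_trichotomy i j with h1 | h1 | h1
  · have := incr_of h i j h1 hj; omega
  · exact h1
  · have := incr_of h j i h1 hi; omega

theorem incr_iff {T n : ℕ} (hn : n ≤ 4096) (h : incr T n = true) :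
    ∀ k, k + 1 < n → ent T k < ent T (k + 1) := by
  intro k hk
  have := allD_lt h (x := k) (by omega)
  rw [Bool.or_eq_true, natBle_iff, natBle_iff] at this
  omega

theorem surj_of_card {α : Type} {F : Set α} {n : ℕ} {obj : ℕ → α} (hfin : F.Finite)
    (mem : ∀ i < n, obj i ∈ F) (inj : ∀ i < n, ∀ j < n, obj i = obj j → i = j)
    (hcard : F.ncard = n) : ∀ a ∈ F, ∃ i < n, obj i = a := by
  have h1 : (obj '' (Set.Iio n)) ⊆ F := by
    rintro _ ⟨i, hi, rfl⟩
    exact mem i hi
  have h2 : (obj '' (Set.Iio n)).ncard = n := by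
    rw [Set.ncard_image_of_injOn (show Set.InjOn obj (Set.Iio n) from
      fun i hi j hj h => inj i hi j hj h)]
    rw [← Finset.coe_Iio, Set.ncard_coe_finset]
    simp
  have h3 := Set.eq_of_subset_of_ncard_le h1 (by rw [h2, hcard]) hfin
  intro a ha
  rw [← h3] at ha
  obtain ⟨i, hi, rfl⟩ := ha
  exact ⟨i, hi, rfl⟩

/-- a family of sets of points given by a sorted table of masks -/
def maskFam (F : Set (Finset GolayPt)) (n T : ℕ) (hn : n ≤ 4096)
    (hmem : ∀ k < n, mset (ent T k) ∈ F) (hinc : incr T n = true) (hcard : F.ncard = n) : Fam F where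
  n := n
  n_le := hn
  obj k := mset (ent T k)
  mem := hmem
  inj i hi j hj h := inj_of_incr (incr_iff hn hinc) i hi j hj
    ((mset_inj (ent_lt T i) (ent_lt T j)).1 h)
  surj := surj_of_card (Set.toFinite _) hmem (fun i hi j hj h => inj_of_incr (incr_iff hn hinc) i hi j hj
    ((mset_inj (ent_lt T i) (ent_lt T j)).1 h)) hcard
  step P i j := Nat.beq (img P (ent T i)) (ent T j)
  sound g P hA i _ j _ h := by
    rw [← hA.mset_img, natBeq_iff.1 h]

/-- the masks of the `k`-th object of a table of objects given by `w` masks -/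
def row (w T k : ℕ) : List ℕ := (List.range w).map (fun a => ent T (w * k + a))

/-- object given by a list of masks -/
def objL (l : List ℕ) : Finset (Finset GolayPt) := (l.map mset).toFinset

theorem mem_objL {l : List ℕ} {s : Finset GolayPt} : s ∈ objL l ↔ ∃ m ∈ l, mset m = s := by
  unfold objL; simp

/-- all images of the first list lie in the second -/
def subImg (P : ℕ) (l l' : List ℕ) : Bool :=
  l.all (fun m => force (img P m) (fun x => l'.any (fun y => Nat.beq x y)))

theorem subImg_sound {g : Equiv.Perm GolayPt} {P : ℕ} (hA : Agrees g P) {l l' : List ℕ}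
    (h : subImg P l l' = true) : g • objL l ⊆ objL l' := by
  unfold subImg at h
  rw [List.all_eq_true] at h
  intro s hs
  rw [Finset.mem_smul_finset] at hs
  obtain ⟨t, ht, rfl⟩ := hs
  rw [mem_objL] at ht
  obtain ⟨m, hm, rfl⟩ := ht
  have h1 := h m hm
  rw [force_eq, List.any_eq_true] at h1
  obtain ⟨y, hy, h2⟩ := h1
  rw [natBeq_iff] at h2
  rw [mem_objL]
  exact ⟨y, hy, by rw [← h2, hA.mset_img]⟩

theorem card_smul_fam (g : Equiv.Perm GolayPt) (S : Finset (Finset GolayPt)) :
    (g • S).card = S.card := Finset.card_smul_finset g S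

theorem row_lt {w T k m : ℕ} (h : m ∈ row w T k) : m < 2 ^ 24 := by
  unfold row at h
  rw [List.mem_map] at h
  obtain ⟨a, _, rfl⟩ := h
  exact ent_lt _ _

/-- strictly increasing list -/
def incrL : List ℕ → Bool
  | [] => true
  | [_] => true
  | a :: b :: l => Bool.and (Nat.ble (a + 1) b) (incrL (b :: l))

theorem incrL_pairwise {l : List ℕ} (h : incrL l = true) : l.Pairwise (· < ·) := by
  rw [← List.isChain_iff_pairwise]
  induction l with
  | nil => exact List.IsChain.nil
  | cons a l ih =>
    cases l with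
    | nil => exact List.isChain_singleton a
    | cons b l =>
      unfold incrL at h
      rw [Bool.and_eq_true, natBle_iff] at h
      rw [List.isChain_cons_cons]
      exact ⟨h.1, ih h.2⟩

theorem eq_of_objL {l l' : List ℕ} (h : l.Pairwise (· < ·)) (h' : l'.Pairwise (· < ·))
    (hl : ∀ m ∈ l, m < 2 ^ 24) (hl' : ∀ m ∈ l', m < 2 ^ 24) (e : objL l = objL l') : l = l' := by
  have h1 : ∀ m, m ∈ l ↔ m ∈ l' := by
    intro m
    constructor
    · intro hm
      have : mset m ∈ objL l' := by rw [← e]; exact mem_objL.2 ⟨m, hm, rfl⟩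
      rw [mem_objL] at this
      obtain ⟨m', hm', e'⟩ := this
      rw [mset_inj (hl' m' hm') (hl m hm)] at e'
      rwa [← e']
    · intro hm
      have : mset m ∈ objL l := by rw [e]; exact mem_objL.2 ⟨m, hm, rfl⟩
      rw [mem_objL] at this
      obtain ⟨m', hm', e'⟩ := this
      rw [mset_inj (hl m' hm') (hl' m hm)] at e'
      rwa [← e']
  have n1 : l.Nodup := h.imp (fun h => ne_of_lt h)
  have n2 : l'.Nodup := h'.imp (fun h => ne_of_lt h)
  have hp : l.Perm l' := (List.perm_ext_iff_of_nodup n1 n2).2 h1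
  exact hp.eq_of_pairwise (le := (· < ·)) (fun a b _ _ h1 h2 => absurd (lt_trans h1 h2) (lt_irrefl a)) h h'

/-- key of a row: first two masks -/
def key2 (w T k : ℕ) : ℕ := ent T (w * k) * 16777216 + ent T (w * k + 1)

/-- all rows are increasing and their keys increase -/
def rowsOK (w T n : ℕ) : Bool :=
  allD (fun k => Bool.or (Nat.ble n k) (Bool.and (incrL (row w T k))
    (Bool.or (Nat.ble n (k + 1)) (Nat.ble (key2 w T k + 1) (key2 w T (k + 1)))))) 12 0

theorem rowsOK_iff {w T n : ℕ} (hn : n ≤ 4096) (h : rowsOK w T n = true) :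
    (∀ k < n, (row w T k).Pairwise (· < ·)) ∧ (∀ k, k + 1 < n → key2 w T k < key2 w T (k + 1)) := by
  constructor
  · intro k hk
    have := allD_lt h (x := k) (by omega)
    rw [Bool.or_eq_true, natBle_iff, Bool.and_eq_true] at this
    rcases this with h1 | h1
    · omega
    · exact incrL_pairwise h1.1
  · intro k hk
    have := allD_lt h (x := k) (by omega)
    rw [Bool.or_eq_true, natBle_iff, Bool.and_eq_true, Bool.or_eq_true, natBle_iff, natBle_iff] at this
    rcases this with h1 | ⟨_, h1 | h1⟩ <;> omega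

theorem rows_inj {w T n : ℕ} (hw : 2 ≤ w) (hn : n ≤ 4096) (h : rowsOK w T n = true) :
    ∀ i < n, ∀ j < n, objL (row w T i) = objL (row w T j) → i = j := by
  obtain ⟨h1, h2⟩ := rowsOK_iff hn h
  intro i hi j hj e
  have h3 := eq_of_objL (h1 i hi) (h1 j hj) (fun m => row_lt) (fun m => row_lt) e
  apply inj_of_incr h2 i hi j hj
  have h4 : ∀ a < w, ent T (w * i + a) = ent T (w * j + a) := by
    intro a ha
    have := congrArg (fun l => l[a]?) h3
    simpa [row, ha] using this
  have h5 := h4 0 (by omega)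
  have h6 := h4 1 (by omega)
  unfold key2
  simp only [Nat.add_zero] at h5
  rw [h5, h6]

/-- a family of sets of sets of points given by a table of masks -/
def rowFam (F : Set (Finset (Finset GolayPt))) (w n T : ℕ) (hw : 2 ≤ w) (hn : n ≤ 4096)
    (hF : ∀ S ∈ F, S.card = w)
    (hmem : ∀ k < n, objL (row w T k) ∈ F) (hrows : rowsOK w T n = true) (hcard : F.ncard = n) :
    Fam F where
  n := n
  n_le := hn
  obj k := objL (row w T k)
  mem := hmem
  inj := rows_inj hw hn hrows
  surj := surj_of_card (Set.toFinite _) hmem (rows_inj hw hn hrows) hcard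
  step P i j := subImg P (row w T i) (row w T j)
  sound g P hA i hi j hj h := by
    apply Finset.eq_of_subset_of_card_le (subImg_sound hA h)
    rw [card_smul_fam, hF _ (hmem i hi), hF _ (hmem j hj)]

/-- points -/
def ptFam : Fam (Set.univ : Set GolayPt) where
  n := 24
  n_le := by omega
  obj k := ofIdx k
  mem _ _ := Set.mem_univ _
  inj i hi j hj h := by rw [← toIdx_ofIdx hi, h, toIdx_ofIdx hj]
  surj a _ := ⟨toIdx a, toIdx_lt a, ofIdx_toIdx a⟩
  step P i j := Nat.beq (papp P i) j
  sound g P hA i hi j hj h := by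
    rw [natBeq_iff] at h
    rw [Equiv.Perm.smul_def, ← toIdx_inj, hA i hi, h, toIdx_ofIdx hj]

/-! ### invariants -/

/-- sum of the squares of the intersection sizes -/
def isum (a b : Finset (Finset GolayPt)) : ℕ := ∑ s ∈ a, ∑ t ∈ b, (s ∩ t).card ^ 2

theorem isum_smul (g : Equiv.Perm GolayPt) (a b : Finset (Finset GolayPt)) :
    isum (g • a) (g • b) = isum a b := by
  unfold isum
  have h : ∀ (a : Finset (Finset GolayPt)) (f : Finset GolayPt → ℕ),
      ∑ s ∈ g • a, f s = ∑ s ∈ a, f (g • s) := by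
    intro a f
    exact Finset.sum_image (fun x _ y _ hxy => smul_left_cancel g hxy)
  rw [h]
  apply Finset.sum_congr rfl
  intro s _
  rw [h]
  apply Finset.sum_congr rfl
  intro t _
  rw [← Finset.smul_finset_inter, card_smul_finset']

/-- one row of the invariant -/
def isumR (x : ℕ) (l' : List ℕ) (r : ℕ) : ℕ :=
  List.rec (motive := fun _ => ℕ) r
    (fun y _ ih' => force (pop24 (Nat.land x y)) (fun z => Nat.add (Nat.mul z z) ih')) l'

/-- the invariant on masks -/
def isumL (l l' : List ℕ) : ℕ :=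
  List.rec (motive := fun _ => ℕ) 0 (fun x _ ih => isumR x l' ih) l

theorem isumR_eq (x : ℕ) (l' : List ℕ) (r : ℕ) :
    isumR x l' r = (l'.map (fun y => (pop24 (x &&& y)) ^ 2)).sum + r := by
  induction l' with
  | nil => simp [isumR]
  | cons y l' ih' =>
    change force (pop24 (x &&& y)) (fun z => Nat.add (Nat.mul z z) (isumR x l' r)) = _
    rw [force_eq, ih', List.map_cons, List.sum_cons]
    change pop24 (x &&& y) * pop24 (x &&& y) + _ = _
    ring

theorem isumL_eq (l l' : List ℕ) : isumL l l' =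
    (l.map (fun x => (l'.map (fun y => (pop24 (x &&& y)) ^ 2)).sum)).sum := by
  induction l with
  | nil => rfl
  | cons x l ih =>
    change isumR x l' (isumL l l') = _
    rw [isumR_eq, ih, List.map_cons, List.sum_cons]

theorem isum_objL {l l' : List ℕ} (h : l.Pairwise (· < ·)) (h' : l'.Pairwise (· < ·))
    (hl : ∀ m ∈ l, m < 2 ^ 24) (hl' : ∀ m ∈ l', m < 2 ^ 24) :
    isum (objL l) (objL l') = isumL l l' := by
  rw [isumL_eq]
  unfold isum objL
  have key : ∀ (l : List ℕ), l.Pairwise (· < ·) → (∀ m ∈ l, m < 2 ^ 24) →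
      ∀ f : Finset GolayPt → ℕ, ∑ s ∈ (l.map mset).toFinset, f s = (l.map (fun x => f (mset x))).sum := by
    intro l h hl f
    rw [List.sum_toFinset, List.map_map]
    · rfl
    · rw [List.nodup_map_iff_inj_on (h.imp (fun h => ne_of_lt h))]
      intro x hx y hy e
      exact (mset_inj (hl x hx) (hl y hy)).1 e
  rw [key l h hl]
  congr 1
  apply List.map_congr_left
  intro x _
  rw [key l' h' hl']
  congr 1
  apply List.map_congr_left
  intro y _
  rw [← mset_and, card_mset]

/-- position in a list -/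
def find (l : List ℕ) (x : ℕ) : ℕ :=
  List.rec (motive := fun _ => ℕ) 0 (fun v _ ih => cond (Nat.beq v x) 0 (Nat.succ ih)) l

/-! ### generators of stabilisers -/

theorem exists_of_packed {P : ℕ} (h : permOK P (pinvP P) = true) (h' : inM24 P = true) :
    ∃ g ∈ M24, Agrees g P :=
  ⟨toPerm P _ h, toPerm_mem_M24 h h', fun i hi => by
    rw [toIdx_toPerm, toIdx_ofIdx hi]⟩

/-- valid elements of `M24` -/
def okGen (P : ℕ) : Bool := Bool.and (permOK P (pinvP P)) (inM24 P)

theorem okGen_sound {P : ℕ} (h : okGen P = true) : ∃ g ∈ M24, Agrees g P := by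
  unfold okGen at h
  rw [Bool.and_eq_true] at h
  exact exists_of_packed h.1 h.2

/-- the generators fix a mask -/
def gsMask (gs : List ℕ) (m : ℕ) : Bool := gs.all (fun P => Bool.and (okGen P) (Nat.beq (img P m) m))

theorem gsMask_sound {gs : List ℕ} {m : ℕ} (h : gsMask gs m = true) :
    ∀ P ∈ gs, ∃ g ∈ M24, Agrees g P ∧ g • mset m = mset m := by
  intro P hP
  unfold gsMask at h
  rw [List.all_eq_true] at h
  have := h P hP
  rw [Bool.and_eq_true, natBeq_iff] at this
  obtain ⟨g, hg, hA⟩ := okGen_sound this.1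
  exact ⟨g, hg, hA, by rw [← hA.mset_img, this.2]⟩

/-- the generators fix a set of masks -/
def gsList (gs : List ℕ) (l : List ℕ) : Bool := gs.all (fun P => Bool.and (okGen P) (subImg P l l))

theorem gsList_sound {gs : List ℕ} {l : List ℕ} (h : gsList gs l = true) :
    ∀ P ∈ gs, ∃ g ∈ M24, Agrees g P ∧ g • objL l = objL l := by
  intro P hP
  unfold gsList at h
  rw [List.all_eq_true] at h
  have := h P hP
  rw [Bool.and_eq_true] at this
  obtain ⟨g, hg, hA⟩ := okGen_sound this.1
  refine ⟨g, hg, hA, ?_⟩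
  apply Finset.eq_of_subset_of_card_le (subImg_sound hA this.2)
  rw [card_smul_fam]

end CfsgL.Orb
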