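import Cfsg.Agent.L.Orb.EnumData
import Cfsg.Agent.L.Orb.Fams
/-!
Enumeration of the elements of `M24` with prescribed images of five points, classes of elements of
order two and three.
-/
set_option autoImplicit false
namespace CfsgL.Orb
open Cfsg CfsgL.Comp CfsgL.Golay
open scoped Pointwise

theorem K48_cover : tr5.all (fun x => tr6.all (fun y => force (pmul x.1 y.1)
    (fun z => K48L.any (fun k => Nat.beq k z)))) = true := by decide +kernel

theorem K48_sound {g : Equiv.Perm GolayPt} (hg : g ∈ fx [bp 3, bp 2, bp 1, bp 0, bp 23]) :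
    ∃ k ∈ K48L, Agrees g k := by
  obtain ⟨x, hx, y, hy, h, h', rfl⟩ := fx5_eq hg
  have h1 := K48_cover
  rw [List.all_eq_true] at h1
  have h2 := h1 x hx
  rw [List.all_eq_true] at h2
  have h3 := h2 y hy
  rw [force_eq, List.any_eq_true] at h3
  obtain ⟨k, hk, h4⟩ := h3
  rw [natBeq_iff] at h4
  refine ⟨k, hk, ?_⟩
  rw [h4]
  have a1 : Agrees (toPerm x.1 x.2 h) x.1 := fun i hi => by rw [toIdx_toPerm, toIdx_ofIdx hi]
  have a2 : Agrees (toPerm y.1 y.2 h') y.1 := fun i hi => by rw [toIdx_toPerm, toIdx_ofIdx hi]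
  exact a1.mul a2

/-- match of a packed permutation with images of `0, 1, 2, 3, 23` -/
def mt (c0 c1 c2 c3 f X : ℕ) : Bool :=
  Bool.and (Nat.beq (papp X 0) c0) (Bool.and (Nat.beq (papp X 1) c1) (Bool.and (Nat.beq (papp X 2) c2)
    (Bool.and (Nat.beq (papp X 3) c3) (Nat.beq (papp X 23) f))))

theorem enum5 {g : Equiv.Perm GolayPt} (hg : g ∈ M24) (XL : List ℕ) (hXL : XL.all okGen = true)
    (c0 c1 c2 c3 f : ℕ) (h0 : toIdx (g (bp 0)) = c0) (h1 : toIdx (g (bp 1)) = c1)
    (h2 : toIdx (g (bp 2)) = c2) (h3 : toIdx (g (bp 3)) = c3) (hf : toIdx (g (bp 23)) = f)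
    (hcov : XL.any (mt c0 c1 c2 c3 f) = true) :
    ∃ X ∈ XL, ∃ k ∈ K48L, Agrees g (pmul X k) := by
  rw [List.any_eq_true] at hcov
  obtain ⟨X, hX, hm⟩ := hcov
  unfold mt at hm
  simp only [Bool.and_eq_true, natBeq_iff] at hm
  obtain ⟨m0, m1, m2, m3, m4⟩ := hm
  rw [List.all_eq_true] at hXL
  obtain ⟨u, hu, hA⟩ := okGen_sound (hXL X hX)
  have hb : ∀ i < 24, toIdx (g (bp i)) = papp X i → (u⁻¹ * g) (bp i) = bp i := by
    intro i hi h
    rw [Equiv.Perm.mul_apply, Equiv.Perm.inv_eq_iff_eq, ← toIdx_inj, h]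
    exact (hA i hi).symm
  have hfx : u⁻¹ * g ∈ fx [bp 3, bp 2, bp 1, bp 0, bp 23] := by
    rw [mem_fx]
    refine ⟨M24.mul_mem (M24.inv_mem hu) hg, ?_⟩
    intro p hp
    simp only [List.mem_cons, List.not_mem_nil, or_false] at hp
    rcases hp with rfl | rfl | rfl | rfl | rfl
    · exact hb 3 (by decide) (by rw [h3, m3])
    · exact hb 2 (by decide) (by rw [h2, m2])
    · exact hb 1 (by decide) (by rw [h1, m1])
    · exact hb 0 (by decide) (by rw [h0, m0])
    · exact hb 23 (by decide) (by rw [hf, m4])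
  obtain ⟨k, hk, hkA⟩ := K48_sound hfx
  refine ⟨X, hX, k, hk, ?_⟩
  have := hA.mul hkA
  rwa [mul_inv_cancel_left] at this

/-- all products satisfy a test -/
def enAll (XL : List ℕ) (test : ℕ → Bool) : Bool :=
  XL.all (fun X => K48L.all (fun k => force (pmul X k) test))

theorem enAll_sound {XL : List ℕ} {test : ℕ → Bool} (h : enAll XL test = true) {X k : ℕ}
    (hX : X ∈ XL) (hk : k ∈ K48L) : test (pmul X k) = true := by
  unfold enAll at h
  rw [List.all_eq_true] at h
  have := h X hX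
  rw [List.all_eq_true] at this
  have := this k hk
  rwa [force_eq] at this

/-- `h c = r h` for packed permutations -/
def cjOK (h c r : ℕ) : Bool := allR (fun i => Nat.beq (papp h (papp c i)) (papp r (papp h i))) 24

theorem cjOK_iff {h c r : ℕ} {gh gc gr : Equiv.Perm GolayPt} (ah : Agrees gh h) (ac : Agrees gc c)
    (ar : Agrees gr r) : cjOK h c r = true ↔ gh * gc = gr * gh := by
  unfold cjOK
  rw [allR_iff]
  constructor
  · intro H
    ext p : 1
    rw [← toIdx_inj, Equiv.Perm.mul_apply, Equiv.Perm.mul_apply, ah.apply, ac.apply, ar.apply, ah.apply]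
    exact natBeq_iff.1 (H _ (toIdx_lt p))
  · intro H i hi
    have := congrArg toIdx (Equiv.congr_fun H (ofIdx i))
    rw [Equiv.Perm.mul_apply, Equiv.Perm.mul_apply, ah.apply, ac.apply, ar.apply, ah.apply,
      toIdx_ofIdx hi] at this
    exact natBeq_iff.2 this

/-- square is the identity -/
def isInv (c : ℕ) : Bool := allR (fun i => Nat.beq (papp c (papp c i)) i) 24
/-- cube is the identity -/
def isCub (c : ℕ) : Bool := allR (fun i => Nat.beq (papp c (papp c (papp c i))) i) 24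

theorem isInv_of {g : Equiv.Perm GolayPt} {c : ℕ} (a : Agrees g c) (h : g * g = 1) : isInv c = true := by
  unfold isInv
  rw [allR_iff]
  intro i hi
  have := congrArg toIdx (Equiv.congr_fun h (ofIdx i))
  rw [Equiv.Perm.mul_apply, a.apply, a.apply, toIdx_ofIdx hi, Equiv.Perm.one_apply, toIdx_ofIdx hi] at this
  exact natBeq_iff.2 this

theorem isCub_of {g : Equiv.Perm GolayPt} {c : ℕ} (a : Agrees g c) (h : g * (g * g) = 1) :
    isCub c = true := by
  unfold isCub
  rw [allR_iff]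
  intro i hi
  have := congrArg toIdx (Equiv.congr_fun h (ofIdx i))
  rw [Equiv.Perm.mul_apply, Equiv.Perm.mul_apply, a.apply, a.apply, a.apply, toIdx_ofIdx hi,
    Equiv.Perm.one_apply, toIdx_ofIdx hi] at this
  exact natBeq_iff.2 this

/-- certificate test -/
def certOK (pre : ℕ → Bool) (cert : List (ℕ × ℕ × ℕ)) (rep : List ℕ) (c : ℕ) : Bool :=
  Bool.or (Bool.not (pre c)) (cert.any (fun e => Bool.and (Nat.beq e.1 c)
    (cjOK e.2.1 c (rep.getD e.2.2 pone))))

/-- certificates use elements of `M24` and valid indices -/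
def certVal (cert : List (ℕ × ℕ × ℕ)) (n : ℕ) : Bool :=
  cert.all (fun e => Bool.and (okGen e.2.1) (Nat.ble (e.2.2 + 1) n))

/-- the permutation represented by a valid packed element -/
noncomputable def ofP (P : ℕ) : Equiv.Perm GolayPt :=
  open Classical in if h : okGen P = true then Classical.choose (okGen_sound h) else 1

theorem ofP_spec {P : ℕ} (h : okGen P = true) : ofP P ∈ M24 ∧ Agrees (ofP P) P := by
  unfold ofP
  rw [dif_pos h]
  exact Classical.choose_spec (okGen_sound h)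

theorem eq_of_agrees {g h : Equiv.Perm GolayPt} {P : ℕ} (hg : Agrees g P) (hh : Agrees h P) : g = h := by
  ext p : 1
  rw [← toIdx_inj, hg.apply, hh.apply]

theorem conj_of_cert {g : Equiv.Perm GolayPt} {c : ℕ} (a : Agrees g c) {pre : ℕ → Bool}
    (hpre : pre c = true) {cert : List (ℕ × ℕ × ℕ)} {rep : List ℕ} {n : ℕ}
    (hc : certOK pre cert rep c = true) (hv : certVal cert n = true) (hrep : rep.all okGen = true)
    (hn : rep.length = n) : ∃ j < n, ∃ h ∈ M24, h * g * h⁻¹ = ofP (rep.getD j pone) := by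
  unfold certOK at hc
  rw [hpre, Bool.not_true, Bool.false_or, List.any_eq_true] at hc
  obtain ⟨e, he, h1⟩ := hc
  rw [Bool.and_eq_true] at h1
  unfold certVal at hv
  rw [List.all_eq_true] at hv
  have h2 := hv e he
  rw [Bool.and_eq_true, natBle_iff] at h2
  obtain ⟨hh, hA⟩ := ofP_spec h2.1
  rw [List.all_eq_true] at hrep
  have h3 : okGen (rep.getD e.2.2 pone) = true := by
    rw [List.getD_eq_getElem _ _ (by omega)]
    exact hrep _ (List.getElem_mem _)
  refine ⟨e.2.2, by omega, ofP e.2.1, hh, ?_⟩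
  rw [(cjOK_iff hA a (ofP_spec h3).2).1 h1.2, mul_inv_cancel_right]

/-- an element of `M24` moving a point to a different one moves a further point outside -/
theorem moves_more {g : Equiv.Perm GolayPt} (hg : g ∈ M24) {a : GolayPt} (ha : g a ≠ a)
    (F : Finset GolayPt) (hF : F.card ≤ 3) (haF : a ∈ F) (hfix : ∀ p, p ∉ F → g p = p) : False := by
  obtain ⟨O, hO, h1, h2⟩ := exists_octad {a} {g a} (by simpa using ha.symm) (by simp)
  have h3 : a ∈ O := h1 (by simp)
  have h4 : g a ∉ O := fun h => Finset.disjoint_left.1 h2 (Finset.mem_singleton_self _) h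
  have h5 : g • O = O := by
    have hO' := (smul_octad hg).2 hO
    apply octad_unique hO' hO
    have h6 : O \ F ⊆ (g • O) ∩ O := by
      intro p hp
      rw [Finset.mem_sdiff] at hp
      rw [Finset.mem_inter]
      refine ⟨?_, hp.1⟩
      have := Finset.smul_mem_smul_finset (a := g) hp.1
      rwa [Equiv.Perm.smul_def, hfix p hp.2] at this
    have h7 := Finset.card_le_card h6
    have h8 := Finset.le_card_sdiff F O
    rw [card_octad hO] at h8
    omega
  apply h4
  rw [← h5]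
  exact Finset.smul_mem_smul_finset h3

theorem XI_ok : XI.all okGen = true := by decide +kernel
theorem XI_cov : ∀ f < 24, f ≠ 0 → f ≠ 1 → f ≠ 2 → f ≠ 3 → XI.any (mt 1 0 3 2 f) = true := by
  decide +kernel
theorem repI_ok : repI.all okGen = true := by decide +kernel
theorem certI_ok : enAll XI (certOK isInv certI repI) = true := by decide +kernel
theorem certI_val : certVal certI 2 = true := by decide +kernel

theorem toIdx_bp {i : ℕ} (hi : i < 24) : toIdx (bp i) = i := toIdx_ofIdx hi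

theorem inv_conj {g : Equiv.Perm GolayPt} (hg : g ∈ M24) (h2 : g * g = 1) (h1 : g ≠ 1) :
    ∃ j < 2, ∃ h ∈ M24, h * g * h⁻¹ = ofP (repI.getD j pone) := by
  have hgg : ∀ p, g (g p) = p := fun p => by rw [← Equiv.Perm.mul_apply, h2]; rfl
  obtain ⟨a, ha⟩ : ∃ a, g a ≠ a := by
    by_contra h
    push Not at h
    exact h1 (Equiv.ext h)
  obtain ⟨c, hc1, hc2⟩ : ∃ c, c ∉ ({a, g a} : Finset GolayPt) ∧ g c ≠ c := by
    by_contra h
    push Not at h
    exact moves_more hg ha {a, g a} (le_trans Finset.card_le_two (by norm_num)) (by simp) h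
  simp only [Finset.mem_insert, Finset.mem_singleton, not_or] at hc1
  have hac : a ≠ c := Ne.symm hc1.1
  have hbc : g a ≠ c := Ne.symm hc1.2
  have had : a ≠ g c := fun h => hbc (by rw [h, hgg])
  have hbd : g a ≠ g c := fun h => hac (g.injective h)
  obtain ⟨e, he⟩ := exists_other [a, g a, c, g c] (by simp)
  simp only [List.mem_cons, List.not_mem_nil, or_false, not_or] at he
  obtain ⟨k, hk, k1, k2, k3, k4, k5⟩ := base_to e a (g a) c (g c) he.1 he.2.1 he.2.2.1 he.2.2.2
    (Ne.symm ha) hac had hbc hbd (Ne.symm hc2)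
  set g' := k⁻¹ * g * k with hg'
  have hg'M : g' ∈ M24 := M24.mul_mem (M24.mul_mem (M24.inv_mem hk) hg) hk
  have kinv : ∀ p q, k p = q → k⁻¹ q = p := fun p q h => by rw [Equiv.Perm.inv_eq_iff_eq]; exact h.symm
  have e0 : g' (bp 0) = bp 1 := by
    rw [hg', Equiv.Perm.mul_apply, Equiv.Perm.mul_apply, k2, kinv _ _ k3]
  have e1 : g' (bp 1) = bp 0 := by
    rw [hg', Equiv.Perm.mul_apply, Equiv.Perm.mul_apply, k3, hgg, kinv _ _ k2]
  have e2 : g' (bp 2) = bp 3 := by
    rw [hg', Equiv.Perm.mul_apply, Equiv.Perm.mul_apply, k4, kinv _ _ k5]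
  have e3 : g' (bp 3) = bp 2 := by
    rw [hg', Equiv.Perm.mul_apply, Equiv.Perm.mul_apply, k5, hgg, kinv _ _ k4]
  have hne : ∀ i < 24, i ≠ 23 → toIdx (g' (bp 23)) ≠ toIdx (g' (bp i)) := by
    intro i hi hi' h
    rw [toIdx_inj] at h
    have := g'.injective h
    rw [← toIdx_inj, toIdx_bp (by decide), toIdx_bp hi] at this
    exact hi' this.symm
  have f0 := hne 1 (by decide) (by decide)
  have f1 := hne 0 (by decide) (by decide)
  have f2 := hne 3 (by decide) (by decide)
  have f3 := hne 2 (by decide) (by decide)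
  rw [e1, toIdx_bp (by decide)] at f0
  rw [e0, toIdx_bp (by decide)] at f1
  rw [e3, toIdx_bp (by decide)] at f2
  rw [e2, toIdx_bp (by decide)] at f3
  obtain ⟨X, hX, k', hk', hA⟩ := enum5 hg'M XI XI_ok 1 0 3 2 _ (by rw [e0, toIdx_bp (by decide)])
    (by rw [e1, toIdx_bp (by decide)]) (by rw [e2, toIdx_bp (by decide)])
    (by rw [e3, toIdx_bp (by decide)]) rfl (XI_cov _ (toIdx_lt _) f0 f1 f2 f3)
  have hinv : g' * g' = 1 := by
    rw [hg']
    calc k⁻¹ * g * k * (k⁻¹ * g * k) = k⁻¹ * (g * g) * k := by group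
      _ = 1 := by rw [h2]; group
  obtain ⟨j, hj, h, hh, e⟩ := conj_of_cert hA (isInv_of hA hinv) (enAll_sound certI_ok hX hk')
    certI_val repI_ok rfl
  refine ⟨j, hj, h * k⁻¹, M24.mul_mem hh (M24.inv_mem hk), ?_⟩
  rw [← e, hg']
  group

theorem XT_ok : XT.all okGen = true := by decide +kernel
theorem XT_cov' : ∀ f < 24, [0, 1, 2, 3, 23].any (Nat.beq f) = true ∨ XT.any (mt 1 2 0 23 f) = true := by
  decide +kernel
theorem XT_cov (f : ℕ) (h : f < 24) (h0 : f ≠ 0) (h1 : f ≠ 1) (h2 : f ≠ 2) (h3 : f ≠ 3) (h4 : f ≠ 23) :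
    XT.any (mt 1 2 0 23 f) = true := by
  rcases XT_cov' f h with h5 | h5
  · simp only [List.any_cons, List.any_nil, Bool.or_eq_true, natBeq_iff] at h5
    rcases h5 with h5 | h5 | h5 | h5 | h5 | h5
    · exact absurd h5 h0
    · exact absurd h5 h1
    · exact absurd h5 h2
    · exact absurd h5 h3
    · exact absurd h5 h4
    · exact absurd h5 (by decide)
  · exact h5
theorem repT_ok : repT.all okGen = true := by decide +kernel
theorem certT_ok : enAll XT (certOK isCub certT repT) = true := by decide +kernel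
theorem certT_val : certVal certT 2 = true := by decide +kernel

theorem three_conj {g : Equiv.Perm GolayPt} (hg : g ∈ M24) (h3 : g * (g * g) = 1) (h1 : g ≠ 1) :
    ∃ j < 2, ∃ h ∈ M24, h * g * h⁻¹ = ofP (repT.getD j pone) := by
  have hggg : ∀ p, g (g (g p)) = p := fun p => by
    rw [← Equiv.Perm.mul_apply, ← Equiv.Perm.mul_apply, mul_assoc, h3]; rfl
  obtain ⟨a, ha⟩ : ∃ a, g a ≠ a := by
    by_contra h
    push Not at h
    exact h1 (Equiv.ext h)
  have ha2 : g (g a) ≠ a := by
    intro h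
    have := hggg a
    rw [h] at this
    exact ha this
  have ha3 : g (g a) ≠ g a := fun h => ha (g.injective h)
  obtain ⟨d, hd1, hd2⟩ : ∃ c, c ∉ ({a, g a, g (g a)} : Finset GolayPt) ∧ g c ≠ c := by
    by_contra h
    push Not at h
    exact moves_more hg ha {a, g a, g (g a)} Finset.card_le_three (by simp) h
  simp only [Finset.mem_insert, Finset.mem_singleton, not_or] at hd1
  have q1 : a ≠ g d := fun h => hd1.2.2 (by rw [h, hggg])
  have q2 : g a ≠ g d := fun h => hd1.1 (g.injective h).symm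
  have q3 : g (g a) ≠ g d := fun h => hd1.2.1 (g.injective h).symm
  obtain ⟨k, hk, k1, k2, k3, k4, k5⟩ := base_to (g d) a (g a) (g (g a)) d (Ne.symm q1) (Ne.symm q2)
    (Ne.symm q3) hd2 (Ne.symm ha) (Ne.symm ha2) (Ne.symm hd1.1) (Ne.symm ha3) (Ne.symm hd1.2.1)
    (Ne.symm hd1.2.2)
  set g' := k⁻¹ * g * k with hg'
  have hg'M : g' ∈ M24 := M24.mul_mem (M24.mul_mem (M24.inv_mem hk) hg) hk
  have kinv : ∀ p q, k p = q → k⁻¹ q = p := fun p q h => by rw [Equiv.Perm.inv_eq_iff_eq]; exact h.symm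
  have e0 : g' (bp 0) = bp 1 := by
    rw [hg', Equiv.Perm.mul_apply, Equiv.Perm.mul_apply, k2, kinv _ _ k3]
  have e1 : g' (bp 1) = bp 2 := by
    rw [hg', Equiv.Perm.mul_apply, Equiv.Perm.mul_apply, k3, kinv _ _ k4]
  have e2 : g' (bp 2) = bp 0 := by
    rw [hg', Equiv.Perm.mul_apply, Equiv.Perm.mul_apply, k4, hggg, kinv _ _ k2]
  have e3 : g' (bp 3) = bp 23 := by
    rw [hg', Equiv.Perm.mul_apply, Equiv.Perm.mul_apply, k5, kinv _ _ k1]
  have hcub : g' * (g' * g') = 1 := by
    rw [hg']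
    calc k⁻¹ * g * k * (k⁻¹ * g * k * (k⁻¹ * g * k)) = k⁻¹ * (g * (g * g)) * k := by group
      _ = 1 := by rw [h3]; group
  have hne : ∀ i < 24, i ≠ 23 → toIdx (g' (bp 23)) ≠ toIdx (g' (bp i)) := by
    intro i hi hi' h
    rw [toIdx_inj] at h
    have := g'.injective h
    rw [← toIdx_inj, toIdx_bp (by decide), toIdx_bp hi] at this
    exact hi' this.symm
  have f0 := hne 2 (by decide) (by decide)
  have f1 := hne 0 (by decide) (by decide)
  have f2 := hne 1 (by decide) (by decide)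
  have f23 := hne 3 (by decide) (by decide)
  rw [e2, toIdx_bp (by decide)] at f0
  rw [e0, toIdx_bp (by decide)] at f1
  rw [e1, toIdx_bp (by decide)] at f2
  rw [e3, toIdx_bp (by decide)] at f23
  have f3 : toIdx (g' (bp 23)) ≠ 3 := by
    intro h
    have h5 : g' (bp 23) = bp 3 := by rw [← toIdx_inj, h, toIdx_bp (by decide)]
    have h6 : g' (g' (g' (bp 3))) = bp 3 := by
      rw [← Equiv.Perm.mul_apply, ← Equiv.Perm.mul_apply, mul_assoc, hcub]; rfl
    rw [e3, h5, e3] at h6
    rw [← toIdx_inj, toIdx_bp (by decide), toIdx_bp (by decide)] at h6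
    omega
  obtain ⟨X, hX, k', hk', hA⟩ := enum5 hg'M XT XT_ok 1 2 0 23 _ (by rw [e0, toIdx_bp (by decide)])
    (by rw [e1, toIdx_bp (by decide)]) (by rw [e2, toIdx_bp (by decide)])
    (by rw [e3, toIdx_bp (by decide)]) rfl (XT_cov _ (toIdx_lt _) f0 f1 f2 f3 f23)
  obtain ⟨j, hj, h, hh, e⟩ := conj_of_cert hA (isCub_of hA hcub) (enAll_sound certT_ok hX hk')
    certT_val repT_ok rfl
  refine ⟨j, hj, h * k⁻¹, M24.mul_mem hh (M24.inv_mem hk), ?_⟩
  rw [← e, hg']
  group

end CfsgL.Orb
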