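import Cfsg.Agent.L.Orb.Trans
/-!
Orbits of the stabiliser of a member of the family duad on the family duad.
-/
set_option autoImplicit false
namespace CfsgL.Orb
open Cfsg CfsgL.Comp CfsgL.Golay
open scoped Pointwise

/-- pointer table -/
def tab_duad_duad : ℕ := 0x22810a2301132290d22390e723810823010b23106923810d22908822010322010123011121010422902423904e20900021900a2410152181072280ff2210992310be0000004380f44310d54480764300594210094280564400854400954300544300524400cb4310ae4310274410514110044400df41101844805845100542109c4310c12311004310d84480f64290334290134480ef4300f74280f843902244107e4380fb4180ee43902a4310544380f34290144180ec4390614280e944909f4290c42211034410fc4210dc4410d64390e14490de4310e34390da4500284410dd4510e54410db4400b44310d34210d74410d94310e04280264310e44390e62280244390f14510eb4380714390f34290f84490ef4310f74490f24500704390f04390f44390e84190ec4190ee4400734290e943006c4390fb23006943903143803f44904c44009344003d44908244104145003e44903644905844004d4400dd44903444004141902f44003a44803821910744806344008645908c43806145107c4380cc4480624480a74310524410074300e045101945006544900844909d4390c22211014480804380904390714480204490744410ba4490724400b344804a43906e42802144803543801e44001f44801d23001c45009844007e45108444104d4390b74400a94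3105a4490434500e243007d44808242904444007b45007922910943909045109844109344808f4400aa4410954410894300e344908f45009245008a4410aa4400892280884280134280c44410b344809f4200b14380484290214280144280334380114510a143801023000f4380c24410bb44809d44108544004643107d45107f43803144907a42000944000723910d4380c54280d04310594490384380e64480c34490664380c04300c14400bf2300be4410b44400b24410ac4210b04410b24310b94390ad4100184490d12400154400bd4500a54300e445009e44906442902642009c4490c72200994380b74310534200b04410684380ad4300ae4410cb22910a44100b44901644804c4090024500454410bf2390fe4200d74200dc45100c4300d54300d32280d244906245000c4490a04390c521110441802f4400304390cc23110b44909b4080022290ff400000230003200000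

theorem orbs_duad_duad : Orbs M24 ({s : Finset GolayPt | s.card = 2}) (fun _ => {s : Finset GolayPt | s.card = 2})
    (fun a b => find [4, 1, 0] (isum (sg a) (sg b))) 3 (szf [1, 44, 231]) :=
  mk_duad (mset 0x800001) base_duad gs_duad [253, 0, 2] gs_duad_ok sg sg_smul [0x800001]
    (by decide +kernel) (by decide +kernel) (sg_mset _) [4, 1, 0] tab_duad_duad [1, 44, 231]
    (by decide +kernel) (by decide +kernel) (by decide +kernel)

end CfsgL.Orb
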