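import Cfsg.Agent.L.Golay.Dodecads
/-!
Orbit tables: a generic way of computing the orbits of the stabiliser of an object on a family
of objects attached to the 24 points.
-/
set_option autoImplicit false
namespace CfsgL.Orb
open Cfsg CfsgL.Comp CfsgL.Golay
open scoped Pointwise

/-- an enumerated family of objects -/
structure Fam {α : Type} [MulAction (Equiv.Perm GolayPt) α] (F : Set α) where
  n : ℕ
  n_le : n ≤ 4096
  obj : ℕ → α
  mem : ∀ i < n, obj i ∈ F
  inj : ∀ i < n, ∀ j < n, obj i = obj j → i = j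
  surj : ∀ a ∈ F, ∃ i < n, obj i = a
  step : ℕ → ℕ → ℕ → Bool
  sound : ∀ (g : Equiv.Perm GolayPt) (P : ℕ), Agrees g P → ∀ i < n, ∀ j < n,
    step P i j = true → g • obj i = obj j

/-- entry of a table of 24-bit numbers -/
def ent (T k : ℕ) : ℕ := Nat.mod (Nat.shiftRight T (Nat.mul 24 k)) 16777216
/-- parent -/
def ePar (e : ℕ) : ℕ := Nat.mod e 4096
/-- generator -/
def eGen (e : ℕ) : ℕ := Nat.mod (Nat.div e 4096) 8
/-- depth -/
def eDep (e : ℕ) : ℕ := Nat.mod (Nat.div e 32768) 64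
/-- label -/
def eLab (e : ℕ) : ℕ := Nat.div e 2097152

/-- check of one entry of the pointer table -/
def chk (step : ℕ → ℕ → ℕ → Bool) (n : ℕ) (dom : ℕ → Bool) (gs roots : List ℕ) (ck : ℕ → ℕ) (T k : ℕ) : Bool :=
  force (ent T k) (fun e => Bool.and (Nat.beq (eLab e) (ck k))
    (cond (Nat.beq (eDep e) 0) (Nat.beq k (roots.getD (eLab e) 0))
      (Bool.and (Bool.and (Nat.ble (ePar e + 1) n) (dom (ePar e)))
        (Bool.and (Nat.ble (eDep (ent T (ePar e)) + 1) (eDep e))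
          (step (gs.getD (eGen e) pone) (ePar e) k)))))

/-- check of a whole pointer table -/
def chkAll (step : ℕ → ℕ → ℕ → Bool) (n : ℕ) (dom : ℕ → Bool) (gs roots : List ℕ) (ck : ℕ → ℕ)
    (T : ℕ) : Bool :=
  allD (fun k => Bool.or (Nat.ble n k) (Bool.or (Bool.not (dom k)) (chk step n dom gs roots ck T k))) 12 0

variable {α β : Type} [MulAction (Equiv.Perm GolayPt) α] [MulAction (Equiv.Perm GolayPt) β]

theorem reach {F : Set β} (B : Fam F) (dom : ℕ → Bool) (M : Subgroup (Equiv.Perm GolayPt)) (A0 : α)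
    (gs roots : List ℕ) (hgs : ∀ P ∈ gs, ∃ g ∈ M, Agrees g P ∧ g • A0 = A0)
    (c : β → ℕ) (hc : ∀ g ∈ M, g • A0 = A0 → ∀ b, c (g • b) = c b)
    (ck : ℕ → ℕ) (hck : ∀ k < B.n, dom k = true → ck k = c (B.obj k)) (T : ℕ)
    (h : chkAll B.step B.n dom gs roots ck T = true) :
    ∀ k < B.n, dom k = true → (eLab (ent T k) = c (B.obj k)) ∧
      ∃ g ∈ M, g • A0 = A0 ∧ g • B.obj (roots.getD (c (B.obj k)) 0) = B.obj k := by
  have hk : ∀ k < B.n, dom k = true → chk B.step B.n dom gs roots ck T k = true := by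
    intro k hk hd
    have := allD_lt h (x := k) (lt_of_lt_of_le hk B.n_le)
    rw [Bool.or_eq_true, Bool.or_eq_true] at this
    rcases this with h1 | h1 | h1
    · rw [natBle_iff] at h1; omega
    · rw [hd] at h1; exact absurd h1 (by decide)
    · exact h1
  have key : ∀ d, ∀ k < B.n, dom k = true → eDep (ent T k) ≤ d →
      ∃ g ∈ M, g • A0 = A0 ∧ g • B.obj (roots.getD (c (B.obj k)) 0) = B.obj k := by
    intro d
    induction d with
    | zero =>
      intro k hkn hdm hd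
      have h1 := hk k hkn hdm
      unfold chk at h1
      rw [force_eq, Bool.and_eq_true, natBeq_iff] at h1
      obtain ⟨h2, h3⟩ := h1
      have h4 : Nat.beq (eDep (ent T k)) 0 = true := by rw [natBeq_iff]; omega
      rw [h4, cond_true, natBeq_iff] at h3
      refine ⟨1, M.one_mem, one_smul _ _, ?_⟩
      rw [one_smul, ← hck k hkn hdm, ← h2, ← h3]
    | succ d ih =>
      intro k hkn hdm hd
      have h1 := hk k hkn hdm
      unfold chk at h1
      rw [force_eq, Bool.and_eq_true, natBeq_iff] at h1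
      obtain ⟨h2, h3⟩ := h1
      by_cases h4 : Nat.beq (eDep (ent T k)) 0 = true
      · rw [h4, cond_true, natBeq_iff] at h3
        refine ⟨1, M.one_mem, one_smul _ _, ?_⟩
        rw [one_smul, ← hck k hkn hdm, ← h2, ← h3]
      · rw [Bool.not_eq_true] at h4
        rw [h4, cond_false, Bool.and_eq_true, Bool.and_eq_true, Bool.and_eq_true, natBle_iff,
          natBle_iff] at h3
        obtain ⟨⟨h5, h5'⟩, h6, h7⟩ := h3
        obtain ⟨g, hg, hgA, hgk⟩ := ih (ePar (ent T k)) (by omega) h5' (by omega)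
        have hu : ∃ u ∈ M, Agrees u (gs.getD (eGen (ent T k)) pone) ∧ u • A0 = A0 := by
          by_cases hi : eGen (ent T k) < gs.length
          · rw [List.getD_eq_getElem _ _ hi]
            exact hgs _ (List.getElem_mem hi)
          · rw [List.getD_eq_default _ _ (by omega)]
            exact ⟨1, M.one_mem, agrees_one, one_smul _ _⟩
        obtain ⟨u, huM, hu1, hu2⟩ := hu
        have h8 := B.sound u _ hu1 (ePar (ent T k)) (by omega) k hkn h7
        refine ⟨u * g, M.mul_mem huM hg, by rw [mul_smul, hgA, hu2], ?_⟩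
        rw [← h8, hc u huM hu2, mul_smul, hgk]
  intro k hkn hdm
  refine ⟨?_, key _ k hkn hdm le_rfl⟩
  have h1 := hk k hkn hdm
  unfold chk at h1
  rw [force_eq, Bool.and_eq_true, natBeq_iff] at h1
  rw [h1.1, hck k hkn hdm]

/-- the orbits of the stabilisers of the members `a` of `FA` on `FB a`, classified by `c` -/
structure Orbs (M : Subgroup (Equiv.Perm GolayPt)) (FA : Set α) (FB : α → Set β) (c : α → β → ℕ)
    (r : ℕ) (size : ℕ → ℕ) : Prop where
  inv : ∀ g ∈ M, ∀ a b, c (g • a) (g • b) = c a b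
  ginv : ∀ g ∈ M, ∀ a, ∀ b ∈ FB a, g • b ∈ FB (g • a)
  lt : ∀ a ∈ FA, ∀ b ∈ FB a, c a b < r
  trans : ∀ a ∈ FA, ∀ b ∈ FB a, ∀ b' ∈ FB a, c a b = c a b' → ∃ g ∈ M, g • a = a ∧ g • b = b'
  count : ∀ a ∈ FA, ∀ i < r, {b | b ∈ FB a ∧ c a b = i}.ncard = size i

/-- count of labels -/
def cntLab (n : ℕ) (dom : ℕ → Bool) (T i : ℕ) : ℕ :=
  cntD (fun k => Bool.and (Bool.and (Nat.ble (k + 1) n) (dom k)) (Nat.beq (eLab (ent T k)) i)) 12 0

/-- all labels are small -/
def labLt (n T r : ℕ) : Bool :=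
  allD (fun k => Bool.or (Nat.ble n k) (Nat.ble (eLab (ent T k) + 1) r)) 12 0

theorem Orbs.of_table {FA : Set α} {FB : α → Set β} {F : Set β} (B : Fam F) (dom : ℕ → Bool)
    (M : Subgroup (Equiv.Perm GolayPt))
    (A0 : α) (hA : ∀ a ∈ FA, ∃ h ∈ M, h • A0 = a)
    (gs roots : List ℕ) (hgs : ∀ P ∈ gs, ∃ g ∈ M, Agrees g P ∧ g • A0 = A0)
    (c : α → β → ℕ) (hc : ∀ g ∈ M, ∀ a b, c (g • a) (g • b) = c a b)
    (hF : ∀ g ∈ M, ∀ a, ∀ b ∈ FB a, g • b ∈ FB (g • a)) (hsub : ∀ b ∈ FB A0, b ∈ F)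
    (hdom : ∀ k < B.n, dom k = true ↔ B.obj k ∈ FB A0)
    (ck : ℕ → ℕ) (hck : ∀ k < B.n, dom k = true → ck k = c A0 (B.obj k)) (T r : ℕ) (size : ℕ → ℕ)
    (h : chkAll B.step B.n dom gs roots ck T = true) (hlt : labLt B.n T r = true)
    (hcnt : ∀ i < r, cntLab B.n dom T i = size i) :
    Orbs M FA FB c r size := by
  have hR := reach B dom M A0 gs roots hgs (c A0)
    (fun g hg hgA b => by
      have := hc g hg A0 b
      rwa [hgA] at this) ck hck T h
  have hlab : ∀ k < B.n, dom k = true → c A0 (B.obj k) < r := by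
    intro k hk hd
    have := allD_lt hlt (x := k) (lt_of_lt_of_le hk B.n_le)
    rw [Bool.or_eq_true, natBle_iff, natBle_iff] at this
    rw [← (hR k hk hd).1]
    omega
  have hback : ∀ a, ∀ h ∈ M, h • A0 = a → ∀ b, c a b = c A0 (h⁻¹ • b) := by
    intro a h hh e b
    rw [← hc h hh A0 (h⁻¹ • b), e, smul_inv_smul]
  have hpull : ∀ a, ∀ h ∈ M, h • A0 = a → ∀ b ∈ FB a, ∃ k < B.n, dom k = true ∧ B.obj k = h⁻¹ • b := by
    intro a h hh e b hb
    have h1 := hF _ (M.inv_mem hh) _ _ hb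
    rw [← e, inv_smul_smul] at h1
    obtain ⟨k, hk, e2⟩ := B.surj _ (hsub _ h1)
    exact ⟨k, hk, (hdom k hk).2 (by rw [e2]; exact h1), e2⟩
  refine ⟨hc, hF, ?_, ?_, ?_⟩
  · intro a ha b hb
    obtain ⟨g, hg, e⟩ := hA a ha
    rw [hback a g hg e]
    obtain ⟨k, hk, hd, e2⟩ := hpull a g hg e b hb
    rw [← e2]
    exact hlab k hk hd
  · intro a ha b hb b' hb' hcc
    obtain ⟨g, hg, e⟩ := hA a ha
    rw [hback a g hg e, hback a g hg e] at hcc
    obtain ⟨k, hk, hd, e2⟩ := hpull a g hg e b hb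
    obtain ⟨k', hk', hd', e2'⟩ := hpull a g hg e b' hb'
    obtain ⟨u, hu, hu1, hu2⟩ := (hR k hk hd).2
    obtain ⟨v, hv, hv1, hv2⟩ := (hR k' hk' hd').2
    rw [← e2, ← e2'] at hcc
    rw [hcc] at hu2
    refine ⟨g * (v * u⁻¹) * g⁻¹, M.mul_mem (M.mul_mem hg (M.mul_mem hv (M.inv_mem hu)))
      (M.inv_mem hg), ?_, ?_⟩
    · rw [← e, ← mul_smul, inv_mul_cancel_right, mul_smul, mul_smul]
      congr 1
      rw [← hv1, smul_left_cancel_iff, hv1, inv_smul_eq_iff, hu1]
    · rw [mul_smul, ← e2, mul_smul, mul_smul, ← hu2, inv_smul_smul, hv2, e2', smul_inv_smul]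
  · intro a ha i hi
    obtain ⟨g, hg, e⟩ := hA a ha
    rw [← hcnt i hi]
    unfold cntLab
    rw [cntD_zero_eq]
    rw [← Set.ncard_coe_finset]
    have him : {b | b ∈ FB a ∧ c a b = i} = (fun k => g • B.obj k) ''
        (↑((Finset.range (2 ^ 12)).filter (fun k => Bool.and (Bool.and (Nat.ble (k + 1) B.n) (dom k))
          (Nat.beq (eLab (ent T k)) i) = true)) : Set ℕ) := by
      ext b
      simp only [Set.mem_image, Finset.mem_coe, Finset.mem_filter, Finset.mem_range,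
        Bool.and_eq_true, natBle_iff, natBeq_iff, Set.mem_ofPred_eq]
      constructor
      · rintro ⟨h1, h2⟩
        obtain ⟨k, hk, hd, e2⟩ := hpull a g hg e b h1
        refine ⟨k, ⟨lt_of_lt_of_le hk B.n_le, ⟨by omega, hd⟩, ?_⟩, ?_⟩
        · rw [(hR k hk hd).1, e2, ← hback a g hg e, h2]
        · rw [e2, smul_inv_smul]
      · rintro ⟨k, ⟨_, ⟨h1, hd⟩, h2⟩, rfl⟩
        have hk : k < B.n := by omega
        refine ⟨?_, ?_⟩
        · rw [← e]
          exact hF g hg _ _ ((hdom k hk).1 hd)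
        · rw [hback a g hg e, inv_smul_smul, ← (hR k hk hd).1, h2]
    rw [him, Set.ncard_image_of_injOn]
    intro k hk k' hk' h5
    simp only [Finset.mem_coe, Finset.mem_filter, Finset.mem_range,
        Bool.and_eq_true, natBle_iff, natBeq_iff] at hk hk'
    exact B.inj k (by omega) k' (by omega) (MulAction.injective g h5)

theorem Orbs.orbit_eq {FA : Set α} {FB : Set β} {c : α → β → ℕ} {r : ℕ} {size : ℕ → ℕ}
    (h : Orbs M24 FA (fun _ => FB) c r size) {a : α} (ha : a ∈ FA) {b : β} (hb : b ∈ FB) :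
    MulAction.orbit ↥(MulAction.stabilizer M24 a) b = {b' | b' ∈ FB ∧ c a b' = c a b} := by
  ext b'
  simp only [Set.mem_ofPred_eq]
  constructor
  · rintro ⟨g, rfl⟩
    have hg : ((g : M24) : Equiv.Perm GolayPt) • a = a := g.2
    refine ⟨h.ginv _ g.1.2 a b hb, ?_⟩
    have := h.inv _ g.1.2 a b
    rw [hg] at this
    exact this
  · rintro ⟨h1, h2⟩
    obtain ⟨g, hg, hga, hgb⟩ := h.trans a ha b hb b' h1 h2.symm
    exact ⟨⟨⟨g, hg⟩, hga⟩, hgb⟩

theorem Orbs.exists_rep {FA : Set α} {FB : α → Set β} {M : Subgroup (Equiv.Perm GolayPt)}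
    {c : α → β → ℕ} {r : ℕ} {size : ℕ → ℕ}
    (h : Orbs M FA FB c r size) {a : α} (ha : a ∈ FA) {i : ℕ} (hi : i < r) (hs : 0 < size i) :
    ∃ b ∈ FB a, c a b = i := by
  have h1 := h.count a ha i hi
  have h2 : {b | b ∈ FB a ∧ c a b = i}.Nonempty := by
    rw [Set.nonempty_iff_ne_empty]
    intro h3
    rw [h3, Set.ncard_empty] at h1
    omega
  obtain ⟨b, hb⟩ := h2
  exact ⟨b, hb.1, hb.2⟩

theorem Orbs.ncard_orbit {FA : Set α} {FB : Set β} {c : α → β → ℕ} {r : ℕ} {size : ℕ → ℕ}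
    (h : Orbs M24 FA (fun _ => FB) c r size) {a : α} (ha : a ∈ FA) {b : β} (hb : b ∈ FB) :
    (MulAction.orbit ↥(MulAction.stabilizer M24 a) b).ncard = size (c a b) := by
  rw [h.orbit_eq ha hb]
  exact h.count a ha _ (h.lt a ha b hb)

theorem Orbs.three {FA : Set α} {FB : Set β} {c : α → β → ℕ} {size : ℕ → ℕ}
    (h : Orbs M24 FA (fun _ => FB) c 3 size) {a : α} (ha : a ∈ FA) (hs : ∀ i < 3, 0 < size i) :
    ∃ X₁ ∈ FB, ∃ X₂ ∈ FB, ∃ X₃ ∈ FB,
      (MulAction.orbit ↥(MulAction.stabilizer M24 a) X₁).ncard = size 0 ∧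
      (MulAction.orbit ↥(MulAction.stabilizer M24 a) X₂).ncard = size 1 ∧
      (MulAction.orbit ↥(MulAction.stabilizer M24 a) X₃).ncard = size 2 ∧
      FB = MulAction.orbit ↥(MulAction.stabilizer M24 a) X₁ ∪
        MulAction.orbit ↥(MulAction.stabilizer M24 a) X₂ ∪
        MulAction.orbit ↥(MulAction.stabilizer M24 a) X₃ := by
  obtain ⟨X1, h1, c1⟩ := h.exists_rep ha (i := 0) (by omega) (hs 0 (by omega))
  obtain ⟨X2, h2, c2⟩ := h.exists_rep ha (i := 1) (by omega) (hs 1 (by omega))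
  obtain ⟨X3, h3, c3⟩ := h.exists_rep ha (i := 2) (by omega) (hs 2 (by omega))
  refine ⟨X1, h1, X2, h2, X3, h3, by rw [h.ncard_orbit ha h1, c1], by rw [h.ncard_orbit ha h2, c2],
    by rw [h.ncard_orbit ha h3, c3], ?_⟩
  rw [h.orbit_eq ha h1, h.orbit_eq ha h2, h.orbit_eq ha h3, c1, c2, c3]
  ext b
  simp only [Set.mem_union, Set.mem_ofPred_eq]
  constructor
  · intro hb
    have := h.lt a ha b hb
    have h4 : c a b = 0 ∨ c a b = 1 ∨ c a b = 2 := by omega
    rcases h4 with h4 | h4 | h4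
    · exact Or.inl (Or.inl ⟨hb, h4⟩)
    · exact Or.inl (Or.inr ⟨hb, h4⟩)
    · exact Or.inr ⟨hb, h4⟩
  · rintro ((⟨hb, _⟩ | ⟨hb, _⟩) | ⟨hb, _⟩) <;> exact hb

theorem Orbs.four {FA : Set α} {FB : Set β} {c : α → β → ℕ} {size : ℕ → ℕ}
    (h : Orbs M24 FA (fun _ => FB) c 4 size) {a : α} (ha : a ∈ FA) (hs : ∀ i < 4, 0 < size i) :
    ∃ X₁ ∈ FB, ∃ X₂ ∈ FB, ∃ X₃ ∈ FB, ∃ X₄ ∈ FB, c a X₁ = 0 ∧
      (MulAction.orbit ↥(MulAction.stabilizer M24 a) X₁).ncard = size 0 ∧
      (MulAction.orbit ↥(MulAction.stabilizer M24 a) X₂).ncard = size 1 ∧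
      (MulAction.orbit ↥(MulAction.stabilizer M24 a) X₃).ncard = size 2 ∧
      (MulAction.orbit ↥(MulAction.stabilizer M24 a) X₄).ncard = size 3 ∧
      FB = MulAction.orbit ↥(MulAction.stabilizer M24 a) X₁ ∪
        MulAction.orbit ↥(MulAction.stabilizer M24 a) X₂ ∪
        MulAction.orbit ↥(MulAction.stabilizer M24 a) X₃ ∪
        MulAction.orbit ↥(MulAction.stabilizer M24 a) X₄ := by
  obtain ⟨X1, h1, c1⟩ := h.exists_rep ha (i := 0) (by omega) (hs 0 (by omega))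
  obtain ⟨X2, h2, c2⟩ := h.exists_rep ha (i := 1) (by omega) (hs 1 (by omega))
  obtain ⟨X3, h3, c3⟩ := h.exists_rep ha (i := 2) (by omega) (hs 2 (by omega))
  obtain ⟨X4, h4, c4⟩ := h.exists_rep ha (i := 3) (by omega) (hs 3 (by omega))
  refine ⟨X1, h1, X2, h2, X3, h3, X4, h4, c1, by rw [h.ncard_orbit ha h1, c1],
    by rw [h.ncard_orbit ha h2, c2],
    by rw [h.ncard_orbit ha h3, c3], by rw [h.ncard_orbit ha h4, c4], ?_⟩
  rw [h.orbit_eq ha h1, h.orbit_eq ha h2, h.orbit_eq ha h3, h.orbit_eq ha h4, c1, c2, c3, c4]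
  ext b
  simp only [Set.mem_union, Set.mem_ofPred_eq]
  constructor
  · intro hb
    have := h.lt a ha b hb
    have h4 : c a b = 0 ∨ c a b = 1 ∨ c a b = 2 ∨ c a b = 3 := by omega
    rcases h4 with h4 | h4 | h4 | h4
    · exact Or.inl (Or.inl (Or.inl ⟨hb, h4⟩))
    · exact Or.inl (Or.inl (Or.inr ⟨hb, h4⟩))
    · exact Or.inl (Or.inr ⟨hb, h4⟩)
    · exact Or.inr ⟨hb, h4⟩
  · rintro (((⟨hb, _⟩ | ⟨hb, _⟩) | ⟨hb, _⟩) | ⟨hb, _⟩) <;> exact hb

theorem Orbs.five {FA : Set α} {FB : Set β} {c : α → β → ℕ} {size : ℕ → ℕ}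
    (h : Orbs M24 FA (fun _ => FB) c 5 size) {a : α} (ha : a ∈ FA) (hs : ∀ i < 5, 0 < size i) :
    ∃ X₁ ∈ FB, ∃ X₂ ∈ FB, ∃ X₃ ∈ FB, ∃ X₄ ∈ FB, ∃ X₅ ∈ FB, c a X₁ = 0 ∧
      (MulAction.orbit ↥(MulAction.stabilizer M24 a) X₁).ncard = size 0 ∧
      (MulAction.orbit ↥(MulAction.stabilizer M24 a) X₂).ncard = size 1 ∧
      (MulAction.orbit ↥(MulAction.stabilizer M24 a) X₃).ncard = size 2 ∧
      (MulAction.orbit ↥(MulAction.stabilizer M24 a) X₄).ncard = size 3 ∧
      (MulAction.orbit ↥(MulAction.stabilizer M24 a) X₅).ncard = size 4 ∧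
      FB = MulAction.orbit ↥(MulAction.stabilizer M24 a) X₁ ∪
        MulAction.orbit ↥(MulAction.stabilizer M24 a) X₂ ∪
        MulAction.orbit ↥(MulAction.stabilizer M24 a) X₃ ∪
        MulAction.orbit ↥(MulAction.stabilizer M24 a) X₄ ∪
        MulAction.orbit ↥(MulAction.stabilizer M24 a) X₅ := by
  obtain ⟨X1, h1, c1⟩ := h.exists_rep ha (i := 0) (by omega) (hs 0 (by omega))
  obtain ⟨X2, h2, c2⟩ := h.exists_rep ha (i := 1) (by omega) (hs 1 (by omega))
  obtain ⟨X3, h3, c3⟩ := h.exists_rep ha (i := 2) (by omega) (hs 2 (by omega))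
  obtain ⟨X4, h4, c4⟩ := h.exists_rep ha (i := 3) (by omega) (hs 3 (by omega))
  obtain ⟨X5, h5, c5⟩ := h.exists_rep ha (i := 4) (by omega) (hs 4 (by omega))
  refine ⟨X1, h1, X2, h2, X3, h3, X4, h4, X5, h5, c1, by rw [h.ncard_orbit ha h1, c1],
    by rw [h.ncard_orbit ha h2, c2],
    by rw [h.ncard_orbit ha h3, c3], by rw [h.ncard_orbit ha h4, c4],
    by rw [h.ncard_orbit ha h5, c5], ?_⟩
  rw [h.orbit_eq ha h1, h.orbit_eq ha h2, h.orbit_eq ha h3, h.orbit_eq ha h4, h.orbit_eq ha h5,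
    c1, c2, c3, c4, c5]
  ext b
  simp only [Set.mem_union, Set.mem_ofPred_eq]
  constructor
  · intro hb
    have := h.lt a ha b hb
    have h4 : c a b = 0 ∨ c a b = 1 ∨ c a b = 2 ∨ c a b = 3 ∨ c a b = 4 := by omega
    rcases h4 with h4 | h4 | h4 | h4 | h4
    · exact Or.inl (Or.inl (Or.inl (Or.inl ⟨hb, h4⟩)))
    · exact Or.inl (Or.inl (Or.inl (Or.inr ⟨hb, h4⟩)))
    · exact Or.inl (Or.inl (Or.inr ⟨hb, h4⟩))
    · exact Or.inl (Or.inr ⟨hb, h4⟩)
    · exact Or.inr ⟨hb, h4⟩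
  · rintro ((((⟨hb, _⟩ | ⟨hb, _⟩) | ⟨hb, _⟩) | ⟨hb, _⟩) | ⟨hb, _⟩) <;> exact hb

/-- maximality of the stabiliser by divisibility of the possible block sizes -/
theorem Orbs.coatom {F : Set α} {c : α → α → ℕ} {r N : ℕ} {size : ℕ → ℕ}
    (h : Orbs M24 F (fun _ => F) c r size) (hr : 1 < r)
    (h0 : ∀ a ∈ F, c a a = 0) (hs0 : size 0 = 1) (hs : ∀ i < r, 0 < size i)
    (htr : ∀ a ∈ F, ∀ b ∈ F, ∃ g ∈ M24, g • a = b) (hN : F.ncard = N)
    (hdiv : ∀ T ∈ (Finset.range r).powerset, 0 ∈ T → (∑ i ∈ T, size i) ∣ N →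
      T = {0} ∨ T = Finset.range r) {a : α} (ha : a ∈ F) :
    IsCoatom (MulAction.stabilizer M24 a) := by
  have hfin : ∀ i < r, {b | b ∈ F ∧ c a b = i}.Finite := by
    intro i hi
    apply Set.finite_of_ncard_pos
    rw [h.count a ha i hi]
    exact hs i hi
  have hz : ∀ b ∈ F, c a b = 0 → b = a := by
    intro b hb hcb
    have h1 := h.count a ha 0 (by omega)
    rw [hs0, Set.ncard_eq_one] at h1
    obtain ⟨x, hx⟩ := h1
    have h2 : b ∈ ({x} : Set α) := by rw [← hx]; exact ⟨hb, hcb⟩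
    have h3 : a ∈ ({x} : Set α) := by rw [← hx]; exact ⟨ha, h0 a ha⟩
    rw [Set.mem_singleton_iff] at h2 h3
    rw [h2, h3]
  refine ⟨?_, ?_⟩
  · intro htop
    obtain ⟨b, hb, hcb⟩ := h.exists_rep ha (i := 1) hr (hs 1 hr)
    obtain ⟨g, hg, e⟩ := htr a ha b hb
    have : (⟨g, hg⟩ : M24) ∈ MulAction.stabilizer M24 a := by rw [htop]; trivial
    have h1 : g • a = a := this
    rw [e] at h1
    rw [h1, h0 a ha] at hcb
    omega
  · intro K hK
    classical
    obtain ⟨T, hT⟩ : ∃ T : Finset ℕ, T = (Finset.range r).filter (fun i => ∃ k ∈ K, c a (k • a) = i) :=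
      ⟨_, rfl⟩
    have hmemF : ∀ k : M24, k • a ∈ F := fun k => h.ginv _ k.2 a a ha
    have horb : MulAction.orbit ↥K a = {b | b ∈ F ∧ c a b ∈ T} := by
      ext b
      simp only [Set.mem_ofPred_eq]
      constructor
      · rintro ⟨k, rfl⟩
        refine ⟨hmemF k, ?_⟩
        rw [hT, Finset.mem_filter, Finset.mem_range]
        exact ⟨h.lt a ha _ (hmemF k), k, k.2, rfl⟩
      · rintro ⟨hb, hc⟩
        rw [hT, Finset.mem_filter] at hc
        obtain ⟨_, k, hk, e⟩ := hc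
        obtain ⟨g, hg, hga, hgb⟩ := h.trans a ha _ (hmemF k) b hb e
        have hgK : (⟨g, hg⟩ : M24) ∈ K := hK.le (show (⟨g, hg⟩ : M24) ∈ MulAction.stabilizer M24 a from hga)
        refine ⟨⟨⟨g, hg⟩ * k, K.mul_mem hgK hk⟩, ?_⟩
        show (g * (k : Equiv.Perm GolayPt)) • a = b
        rw [mul_smul]
        exact hgb
    have hcard : (MulAction.orbit ↥K a).ncard = ∑ i ∈ T, size i := by
      have h1 : MulAction.orbit ↥K a = ⋃ i ∈ T, {b | b ∈ F ∧ c a b = i} := by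
        rw [horb]
        ext b
        simp only [Set.mem_ofPred_eq, Set.mem_iUnion, exists_prop]
        constructor
        · rintro ⟨h1, h2⟩; exact ⟨_, h2, h1, rfl⟩
        · rintro ⟨i, hi, h1, rfl⟩; exact ⟨h1, hi⟩
      rw [h1]
      have hlt : ∀ i ∈ T, i < r := fun i hi => by
        rw [hT, Finset.mem_filter, Finset.mem_range] at hi; exact hi.1
      have h2 : (⋃ i ∈ T, {b | b ∈ F ∧ c a b = i}).ncard = ∑ i ∈ T, {b | b ∈ F ∧ c a b = i}.ncard := by
        clear hT h1 horb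
        induction T using Finset.induction_on with
        | empty => simp
        | insert j T hj ih =>
          have hf1 := hfin j (hlt j (Finset.mem_insert_self _ _))
          have hf2 : (⋃ i ∈ T, {b | b ∈ F ∧ c a b = i}).Finite := by
            apply Set.Finite.biUnion (Finset.finite_toSet T)
            intro i hi
            exact hfin i (hlt i (Finset.mem_insert_of_mem hi))
          have hd : Disjoint {b | b ∈ F ∧ c a b = j} (⋃ i ∈ T, {b | b ∈ F ∧ c a b = i}) := by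
            rw [Set.disjoint_left]
            rintro b ⟨_, h3⟩ h4
            simp only [Set.mem_iUnion, exists_prop, Set.mem_ofPred_eq] at h4
            obtain ⟨i, hi, _, h5⟩ := h4
            rw [h3] at h5
            exact hj (h5 ▸ hi)
          rw [Finset.sum_insert hj, Finset.set_biUnion_insert, Set.ncard_union_eq hd hf1 hf2,
            ih (fun i hi => hlt i (Finset.mem_insert_of_mem hi))]
      rw [h2]
      exact Finset.sum_congr rfl (fun i hi => h.count a ha i (hlt i hi))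
    have hdv : (MulAction.orbit ↥K a).ncard ∣ N := by
      have e1 : (MulAction.stabilizer ↥K a) = (MulAction.stabilizer M24 a).subgroupOf K := by
        ext k
        rw [Subgroup.mem_subgroupOf, MulAction.mem_stabilizer_iff, MulAction.mem_stabilizer_iff]
        rfl
      have e2 : (MulAction.orbit ↥K a).ncard = (MulAction.stabilizer M24 a).relIndex K := by
        rw [← MulAction.index_stabilizer, e1]
        rfl
      have e3 : N = (MulAction.stabilizer M24 a).index := by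
        rw [MulAction.index_stabilizer, ← hN]
        congr 1
        ext b
        constructor
        · intro hb
          obtain ⟨g, hg, e⟩ := htr a ha b hb
          exact ⟨⟨g, hg⟩, e⟩
        · rintro ⟨g, rfl⟩
          exact hmemF g
      rw [e2, e3]
      exact Dvd.intro _ (Subgroup.relIndex_mul_index hK.le)
    have h0T : 0 ∈ T := by
      rw [hT, Finset.mem_filter, Finset.mem_range]
      exact ⟨by omega, 1, K.one_mem, by rw [one_smul, h0 a ha]⟩
    rw [hcard] at hdv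
    rcases hdiv T (Finset.mem_powerset.2 (hT ▸ Finset.filter_subset _ _)) h0T hdv with h1 | h1
    · exfalso
      refine hK.not_ge ?_
      intro k hk
      have h2 : k • a ∈ MulAction.orbit ↥K a := ⟨⟨k, hk⟩, rfl⟩
      rw [horb, h1] at h2
      exact hz _ h2.1 (Finset.mem_singleton.1 h2.2)
    · rw [eq_top_iff]
      intro g _
      have h2 : g • a ∈ MulAction.orbit ↥K a := by
        rw [horb, h1]
        exact ⟨hmemF g, Finset.mem_range.2 (h.lt a ha _ (hmemF g))⟩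
      obtain ⟨k, hk⟩ := h2
      have h3 : (k : M24)⁻¹ * g ∈ MulAction.stabilizer M24 a := by
        rw [MulAction.mem_stabilizer_iff, mul_smul, inv_smul_eq_iff]
        exact hk.symm
      have h4 := K.mul_mem k.2 (hK.le h3)
      rwa [mul_inv_cancel_left] at h4

end CfsgL.Orb
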